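import Groth.Agent.Ega1.GenPts
import Groth.Agent.Sga4B.SmoothNormal
import Groth.Agent.Flat2B.SmoothGeom
import Groth.Agent.S1536
import Groth.Prelude.Def_Curve
import Mathlib.AlgebraicGeometry.Geometrically.Connected
import Mathlib.AlgebraicGeometry.Geometrically.Irreducible
import Mathlib.AlgebraicGeometry.Geometrically.Integral

/-!
# Smooth geometrically connected schemes over a field

For `f : X ⟶ Spec k` smooth and geometrically connected:
* `geometricallyIrreducible`, `geometricallyIntegral`, `isIntegral`;
* `h0_one`: `h^0(O_X) = 1` when `X` is also proper;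
* `isSmoothProperCurve`: the structure `Curve.IsSmoothProperCurve` in dimension one.
-/

set_option autoImplicit false
universe u
open CategoryTheory CategoryTheory.Limits AlgebraicGeometry

namespace K533.CurveBasic

open Groth.Agent

variable {k : Type u} [Field k] {X : Scheme.{u}}

/-- A connected scheme smooth over a field is integral. -/
theorem isIntegral_of_smooth (f : X ⟶ Spec (CommRingCat.of k)) [Smooth f] [ConnectedSpace X] :
    IsIntegral X := by
  have h1 : IsLocallyNoetherian X := LocallyOfFiniteType.isLocallyNoetherian f
  rw [Ega1.GenPts.isIntegral_iff]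
  exact ⟨inferInstance, fun x => (Sga4B.SmoothNormal.isNormalScheme_of_smooth f x).1⟩

theorem geometricallyIrreducible (f : X ⟶ Spec (CommRingCat.of k)) [Smooth f]
    [GeometricallyConnected f] : GeometricallyIrreducible f := by
  refine ⟨?_⟩
  rw [geometrically_iff_of_isClosedUnderIsomorphisms]
  intro K _ y
  have h1 : ConnectedSpace ↥(pullback f y) :=
    GeometricallyConnected.geometrically_connectedSpace _ _ _ (.of_hasPullback _ _)
  have := isIntegral_of_smooth (pullback.snd f y)
  infer_instance

theorem geometricallyIntegral (f : X ⟶ Spec (CommRingCat.of k)) [Smooth f]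
    [GeometricallyConnected f] : GeometricallyIntegral f := by
  have := geometricallyIrreducible f
  exact Flat2B.SmoothGeom.geometricallyIntegral_of_smooth f

theorem isIntegral (f : X ⟶ Spec (CommRingCat.of k)) [Smooth f] [GeometricallyConnected f] :
    IsIntegral X := by
  have : Subsingleton (Spec (CommRingCat.of k)) := inferInstanceAs (Subsingleton (PrimeSpectrum k))
  have := geometricallyIntegral f
  exact GeometricallyIntegral.isIntegral_of_subsingleton f

theorem isSmoothProperCurve (f : X ⟶ Spec (CommRingCat.of k)) [IsProper f] [Smooth f]
    [GeometricallyConnected f] (hdim : topologicalKrullDim X = 1) :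
    Curve.IsSmoothProperCurve k X f :=
  ⟨inferInstance, inferInstance, isIntegral f, hdim⟩

theorem h0_one (k : Type u) [Field k] (X : Scheme.{u}) [X.Over (Spec (CommRingCat.of k))]
    [IsProper (X ↘ (Spec (CommRingCat.of k)))] [Smooth (X ↘ (Spec (CommRingCat.of k)))]
    [GeometricallyConnected (X ↘ (Spec (CommRingCat.of k)))] :
    Module.finrank k (Coh.HH X (Coh.structureModule X) 0) = 1 := by
  have := Flat2B.SmoothGeom.geometricallyReduced_of_smooth (X ↘ (Spec (CommRingCat.of k)))
  exact S1536.result k X

end K533.CurveBasic
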