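import Groth.Agent.Sga7.H732.Hedge
import Groth.Agent.Etcore.JacGrp
import Groth.Agent.S3238
import Groth.Agent.JacVar.K532.Base

/-!
# The Jacobian of a curve over a separably closed field, in the form `IsJac`
-/

set_option autoImplicit false
universe u

open CategoryTheory CategoryTheory.Limits AlgebraicGeometry Opposite MonObj

namespace K533.JacSep

open Groth.Agent Groth.Agent.Grpsch.PicGrp Groth.Agent.Fga.RigGrp Groth.Agent.Fga.JacSum
  Groth.Agent.Fga.JacSurj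
open Groth.Agent.Sga7.H732.Hedge

theorem toCl_eq {Y : Scheme.{u}} (c : Pic Y) : Etcore.FibreDeg.toCl c = toCl c := by
  induction c using ind with | _ L hL => ?_
  rfl

variable {K : Type u} [Field K] {C : Scheme.{u}} {f : C ⟶ Spec (CommRingCat.of K)}

/-- From the universal pair to the Jacobian as a group scheme. -/
theorem exists_isJac (hX : Curve.IsSmoothProperCurve K C f) [GeometricallyIntegral f]
    (σ : Spec (CommRingCat.of K) ⟶ C) (hσ : σ ≫ f = 𝟙 _) (J : Over (Spec (CommRingCat.of K)))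
    (ξ : PicF.Rig f σ hσ J) (h4 : FGA.HasFibreDegreeZeroCl f J ξ.1)
    (h5 : ∀ (T : Over (Spec (CommRingCat.of K))) (c : PicF.Rig f σ hσ T), FGA.HasFibreDegreeZeroCl f T c.1 →
        ∃! g : T ⟶ J, PicF.pullCl (PicF.XTmap f g) ξ.1 = c.1) :
    ∃ (_ : GrpObj J) (ξ' : Pic (PicF.XT f J)), IsJac f σ hσ J ξ' := by
  obtain ⟨hp, hs, hint, hdim⟩ := id hX
  let G : GrpObj J := Etcore.JacGrp.grpObj f hdim σ hσ ξ h4 h5
  let a := Etcore.JacGrp.ξ0 f hdim σ hσ ξ h4
  have ha : toCl a.1 = ξ.1 := by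
    rw [← toCl_eq]
    exact Etcore.JacGrp.toCl_ξ0 f hdim σ hσ ξ h4
  have hval : ∀ {T : Over (Spec (CommRingCat.of K))} (g : T ⟶ J),
      ((Etcore.JacGrp.homEquiv f hdim σ hσ ξ h4 h5 T) g).1 = pull (PicF.XTmap f g) a.1 := fun g => rfl
  refine ⟨G, a.1, ⟨a.2.1, by rw [ha]; exact h4, ?_, ?_⟩⟩
  · intro T g h
    rw [← hval, ← hval, ← hval, map_mul]
    rfl
  · intro T c hc hc0
    obtain ⟨g, hg, hu⟩ := h5 T (rigEquiv f σ hσ T ⟨c, hc⟩) hc0
    refine ⟨g, toCl_injective ?_, fun g' hg' => hu g' ?_⟩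
    · rw [toCl_pull, ha]
      exact hg
    · change PicF.pullCl _ _ = toCl c
      rw [← ha, ← toCl_pull, hg']

/-- Existence of the Jacobian over a separably closed field. -/
theorem exists_jac [IsSepClosed K] (f : C ⟶ Spec (CommRingCat.of K)) [IsProper f] [Smooth f]
    [GeometricallyConnected f] (hdim : topologicalKrullDim C = 1)
    (σ : Spec (CommRingCat.of K) ⟶ C) (hσ : σ ≫ f = 𝟙 _) :
    ∃ (J : Over (Spec (CommRingCat.of K))) (_ : GrpObj J) (ξ : Pic (PicF.XT f J)),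
      IsProper J.hom ∧ Smooth J.hom ∧ GeometricallyIrreducible J.hom ∧ IsJac f σ hσ J ξ := by
  have hgi := K532.Base.geometricallyIntegral f
  obtain ⟨J, ξ, h1, h2, h3, h4, h5⟩ := S3238.result K C f hdim σ hσ
  obtain ⟨G, ξ', h⟩ := exists_isJac (K532.Base.isSmoothProperCurve f hdim) σ hσ J ξ h4 h5
  exact ⟨J, G, ξ', h1, h2, h3, h⟩

end K533.JacSep
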