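import Groth.Agent.JacVar.K532.Fine
import Groth.Agent.Picfga.PtEval

/-!
# The Abel map of the coarse moduli problem in terms of classes

For a smooth proper curve `f : C ⟶ Spec k` with its Jacobian `J` in the sense of coarse moduli and an isomorphism `e` onto
a Jacobian `(J₀, ξ₀)` in the sense of rigidified classes, compatible with the classifying maps: the Abel map `j` of
`Jac.IsAbelJacobiAt` satisfies `cls (z ≫ j) = acl z` for every point `z` of `C` (`cls_abel`).
-/

set_option autoImplicit false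
universe u
open CategoryTheory CategoryTheory.Limits AlgebraicGeometry MonObj MonoidalCategory CartesianMonoidalCategory

namespace K533.AbelAt

open Groth.Agent Groth.Agent.Grpsch.PicGrp Groth.Agent.Fga.RigGrp Groth.Agent.Fga.JacSum Groth.Agent.Fga
open Groth.Agent.Fga.JacSurj Groth.Agent.Picfga.ChiDef Groth.Agent.Sga7.H732.Hedge Groth.Agent.Fdesc.LocGen
open Groth.Agent.Sga7.H732.Abel K532.Fine

variable {k : Type u} [Field k] {C : Scheme.{u}} (f : C ⟶ Spec (CommRingCat.of k))
  [SmoothOfRelativeDimension 1 f] [IsSeparated f]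

/-- The class of the constant section is pulled back from the class of the ideal of the section. -/
theorem gcl_ofSection {σ : Spec (CommRingCat.of k) ⟶ C} (hσ : σ ≫ f = 𝟙 _)
    (hE : PicF.IsInvertible (ClSub.idealMod σ.ker)) (T : Over (Spec (CommRingCat.of k))) :
    gcl f (Pt.ofSection hσ T) = pull (pullback.fst f T.hom) (mk (ClSub.idealMod σ.ker) hE) := by
  have h1 : HilbD.secGraph f T (Pt.ofSection hσ T).1 (Pt.ofSection hσ T).2 =
      σ.ker.comap (pullback.fst f T.hom) := by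
    rw [← Picfga.PtEval.ker_secT (hx := hσ)]
    rfl
  have hE' := isEff_secGraph f (Pt.ofSection hσ T)
  rw [gcl, pull_mk, eq_comm, mk_eq_iff]
  have h2 := Dix.IdealModCartier.pullback_idealMod (pullback.fst f T.hom)
    ((Dix.IdealModCartier.isInvertible_idealMod_iff _).1 hE) (by rw [← h1]; exact hE')
  rwa [← h1] at h2

theorem isInvertible_ker {σ : Spec (CommRingCat.of k) ⟶ C} (hσ : σ ≫ f = 𝟙 _) :
    PicF.IsInvertible (ClSub.idealMod σ.ker) :=
  Dix.IdealModCartier.isInvertible_idealMod (Picfga.PtEval.isEff_ker hσ).1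

/-- The class of a family `O(Δ - σ)`. -/
theorem mk_of_isAJFamilyAt {σ : Spec (CommRingCat.of k) ⟶ C} (hσ : σ ≫ f = 𝟙 _)
    {L : (PicF.XT f (Over.mk f)).Modules} (hL : PicF.IsInvertible L) (h : Jac.IsAJFamilyAt f σ L) :
    mk L hL = (gcl f (idPt (f := f)))⁻¹ * gcl f (Pt.ofSection hσ (Over.mk f)) := by
  obtain ⟨-, ⟨e⟩⟩ := h
  have hE := isInvertible_ker f hσ
  rw [eq_inv_mul_iff_mul_eq, gcl_ofSection f hσ hE, _root_.mul_comm, pull_mk]
  refine (mk_mul_mk hL (Dix.IdealModCartier.isInvertible_idealMod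
    (isEff_secGraph f (idPt (f := f))))).trans ?_
  exact mk_congr e

variable {f} {σ : Spec (CommRingCat.of k) ⟶ C} {hσ : σ ≫ f = 𝟙 (Spec (CommRingCat.of k))}

variable [IsProper f] (hdim : topologicalKrullDim C = 1) {J₀ : Over (Spec (CommRingCat.of k))} [GrpObj J₀]
  {ξ₀ : Pic (PicF.XT f J₀)} (h₀ : IsJac f σ hσ J₀ ξ₀)

/-- The class of the image of a point under the Abel map. -/
theorem cls_abel {J : Over (Spec (CommRingCat.of k))} [GrpObj J] {ψ : (ModFun.PicDeg f 0).Hom ⊤ J}
    (e : J ≅ J₀) [IsMonHom e.hom]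
    (he : ∀ (T : Over (Spec (CommRingCat.of k))) (L : (PicF.XT f T).Modules)
      (hT : (⊤ : ObjectProperty _) T) (hL : (ModFun.PicDeg f 0).ok T L),
      ψ.app T L hT hL ≫ e.hom = (psi hdim h₀).app T L hT hL)
    {j : Over.mk f ⟶ J} (hj : Jac.IsAbelJacobiAt f σ ψ j)
    (T : Over (Spec (CommRingCat.of k))) (z : Pt f T) :
    Sga7.H732.Abel.cls (isJac_of_iso h₀ e) T (ptHom z ≫ j) = acl f σ hσ z := by
  obtain ⟨hP, L, hL, hAJ, rfl⟩ := hj
  have h1 : Sga7.H732.Abel.cls (isJac_of_iso h₀ e) T (ptHom z ≫ ψ.app (Over.mk f) L hP hL) =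
      Sga7.H732.Abel.cls h₀ T (ptHom z ≫ (psi hdim h₀).app (Over.mk f) L hP hL) := by
    rw [cls_apply, cls_apply, ← pull_comp, ← XTmap_comp, Category.assoc, he]
  rw [h1, cls_comp, cls_apply, pull_psi hdim h₀ hP hL, pull_norm, K532.Fine.cls,
    mk_of_isAJFamilyAt f hσ _ hAJ, map_mul, map_inv, pull_gcl, pull_gcl, Pt.ofSection_comp, idPt_comp]
  rfl

end K533.AbelAt
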