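import Groth.Agent.CurvesB.TwistIdeal
import Groth.Agent.CurvesB.UnitCoh
import Groth.Agent.S0002

/-!
# Vanishing of `H^1` and Riemann-Roch on a proper integral curve with `h^0(O) = 1`

* `isCoh`: invertible modules are coherent; `finite`: their cohomology is finite dimensional;
* `rr`: `deg L = h^0(L) - h^1(L) - 1 + g`;
* `subsingleton_H1`: `H^1(L) = 0` when `deg L > 2g - 2`;
* `h0_eq`: then `h^0(L) = deg L + 1 - g`.
-/

set_option autoImplicit false
universe u
open CategoryTheory CategoryTheory.Limits AlgebraicGeometry Opposite TopologicalSpace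

namespace K533.CurveH1

open Groth.Agent Groth.Agent.CurvesB.CurveRR Groth.Agent.VarietyA.EulerLES

theorem isCoh {X : Scheme.{u}} {L : X.Modules} (hL : PicF.IsInvertible L) : Coh.IsCoh L :=
  VarietyA.EulerFinite.isCoh_of_iso (Ega2.Tens.lunit L)
    (Fga.TwistCoh.isCoh_tensor (CurvesB.UnitCoh.isCoh_structureModule X) hL)

variable (k : Type u) [Field k] {X : Scheme.{u}} [X.Over (Spec (CommRingCat.of k))]
  [IsProper (X ↘ (Spec (CommRingCat.of k)))]

theorem finite {L : X.Modules} (hL : PicF.IsInvertible L) (n : ℕ) :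
    Module.Finite k (Coh.HH X L n) := S0002.result k X L (isCoh hL) n

theorem rr (hdim : topologicalKrullDim X = 1)
    (h0 : Module.finrank k (Coh.HH X (Coh.structureModule X) 0) = 1) (L : X.Modules) :
    Curv2.deg k X L 1 = (Module.finrank k (Coh.HH X L 0) : ℤ) -
      (Module.finrank k (Coh.HH X L 1) : ℤ) - 1 + (Curv2.genus k X : ℤ) := by
  have := isNoetherian_of_proper k X
  rw [deg_eq k X hdim.le, h0]
  push_cast
  ring

variable [IsIntegral X]

theorem subsingleton_H1 (hdim : topologicalKrullDim X = 1)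
    (h0 : Module.finrank k (Coh.HH X (Coh.structureModule X) 0) = 1) {L : X.Modules}
    (hL : PicF.IsInvertible L) (hdeg : 2 * (Curv2.genus k X : ℤ) - 2 < Curv2.deg k X L 1) :
    Subsingleton (Coh.HH X L 1) := by
  have := isNoetherian_of_proper k X
  have f1 : Module.Finite k (Coh.HH X (Coh.structureModule X) 1) :=
    S0002.result k X _ (CurvesB.UnitCoh.isCoh_structureModule X) 1
  have f2 := finite k hL 1
  by_contra h
  rw [not_subsingleton_iff_nontrivial] at h
  have hle := finrank_H0_le_genus k hdim.le (CurvesB.InvEmb.locEmb_of_isInvertible hL) h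
  have hpos : 0 < Module.finrank k (Coh.HH X L 1) := Module.finrank_pos
  have := rr k hdim h0 L
  omega

theorem h0_eq (hdim : topologicalKrullDim X = 1)
    (h0 : Module.finrank k (Coh.HH X (Coh.structureModule X) 0) = 1) {L : X.Modules}
    (hL : PicF.IsInvertible L) (hdeg : 2 * (Curv2.genus k X : ℤ) - 2 < Curv2.deg k X L 1) :
    (Module.finrank k (Coh.HH X L 0) : ℤ) = Curv2.deg k X L 1 + 1 - Curv2.genus k X := by
  have h1 := subsingleton_H1 k hdim h0 hL hdeg
  have h2 := rr k hdim h0 L
  rw [Module.finrank_zero_of_subsingleton (M := Coh.HH X L 1)] at h2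
  push_cast at h2
  omega

end K533.CurveH1
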