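import Groth.Agent.CurvesB.TwistIdeal
import Groth.Agent.Old.H24.SecondSection
import Groth.Agent.Picfga.PtEval
import Groth.Agent.Dix.InterNum
import Groth.Agent.CohqB.DevSupport
import Groth.Agent.CurvesB.UnitCoh
import Groth.Agent.S0002

/-!
# Twisting an invertible module on a proper scheme down by a rational point

For `X` proper over a field `k`, `P : Spec k ⟶ X` a rational point and `L` an invertible module:
* `finrank_point`: `dim H^0(O_P) = 1`;
* `finrank_le`: `h^0(L ⊗ I_P) ≤ h^0(L) ≤ h^0(L ⊗ I_P) + 1`;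
* `finrank_of_mem_genLocus`: if a section of `L` generates at `P` then
  `h^0(L ⊗ I_P) + 1 = h^0(L)` and `h^1(L ⊗ I_P) = h^1(L)`.
-/

set_option autoImplicit false
universe u
open CategoryTheory CategoryTheory.Limits AlgebraicGeometry Opposite TopologicalSpace

namespace K533.PtTwist

open Groth.Agent Groth.Agent.CurvesB.TwistIdeal Groth.Agent.CurvesB.CurveRR Groth.Agent.Fdesc.LocGen
open Groth.Agent.VarietyA.EulerLES

variable (k : Type u) [Field k] {X : Scheme.{u}} [X.Over (Spec (CommRingCat.of k))]
  [IsProper (X ↘ (Spec (CommRingCat.of k)))]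

section Point

variable {k} (P : Spec (CommRingCat.of k) ⟶ X) (hP : P ≫ (X ↘ (Spec (CommRingCat.of k))) = 𝟙 _)

include hP in
theorem isClosedImmersion_point : IsClosedImmersion P :=
  Picfga.PtEval.isClosedImmersion_of_section hP

/-- The point of `X` underlying a rational point. -/
noncomputable def pt : X := P (IsLocalRing.closedPoint k)

omit [X.Over (Spec (CommRingCat.of k))] [IsProper (X ↘ (Spec (CommRingCat.of k)))] in
theorem range_eq : Set.range P = {pt P} := by
  have : Subsingleton (Spec (CommRingCat.of k)) := inferInstanceAs (Subsingleton (PrimeSpectrum k))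
  ext x
  constructor
  · rintro ⟨y, rfl⟩
    rw [Subsingleton.elim y (IsLocalRing.closedPoint k)]
    rfl
  · rintro rfl
    exact ⟨_, rfl⟩

include hP in
theorem support_ker : (P.ker.support : Set X) = {pt P} := by
  have := isClosedImmersion_point P hP
  rw [Scheme.Hom.support_ker, range_eq]
  rw [← range_eq]
  exact (Scheme.Hom.isClosedEmbedding P).isClosed_range.closure_eq

include hP in
theorem isClosed_pt : IsClosed ({pt P} : Set X) := by
  have := isClosedImmersion_point P hP
  rw [← range_eq]
  exact (Scheme.Hom.isClosedEmbedding P).isClosed_range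

include hP in
theorem dim_support : topologicalKrullDim (P.ker.support : Set X) ≤ 0 := by
  rw [support_ker P hP]
  have : Subsingleton ({pt P} : Set X) := inferInstance
  have h : Subsingleton (IrreducibleCloseds ({pt P} : Set X)) := by
    constructor
    intro a b
    ext z
    constructor
    · intro _
      obtain ⟨w, hw⟩ := b.isIrreducible.nonempty
      rwa [Subsingleton.elim z w]
    · intro _
      obtain ⟨w, hw⟩ := a.isIrreducible.nonempty
      rwa [Subsingleton.elim z w]
  exact Order.krullDim_nonpos_of_subsingleton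

include hP in
theorem finrank_point : Module.finrank k (Coh.HH X (ClSub.quotMod P.ker) 0) = 1 := by
  have := isClosedImmersion_point P hP
  rw [Dix.InterNum.finrank_quotMod]
  obtain ⟨e, he, h⟩ := Picfga.SecGraph.exists_iso_ker_subscheme P
  rw [Dix.InterNum.h0_congr (P.ker.subschemeι ≫ (X ↘ (Spec (CommRingCat.of k))))
    (𝟙 (Spec (CommRingCat.of k))) (asIso e) (by
      rw [asIso_hom, ← h, Category.assoc, hP])]
  let m : Module k Γ(Spec (CommRingCat.of k), ⊤) := Module.compHom Γ(Spec (CommRingCat.of k), ⊤)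
    (Dix.InterNum.glo (𝟙 (Spec (CommRingCat.of k))))
  change Module.finrank k Γ(Spec (CommRingCat.of k), ⊤) = 1
  have hglo : ∀ t, Dix.InterNum.glo (𝟙 (Spec (CommRingCat.of k))) t =
      (Scheme.ΓSpecIso (CommRingCat.of k)).inv.hom t := by
    intro t
    change (𝟙 (Spec (CommRingCat.of k)) : _ ⟶ _).appTop.hom _ = _
    simp
  let e' : k ≃ₗ[k] Γ(Spec (CommRingCat.of k), ⊤) :=
    { (Scheme.ΓSpecIso (CommRingCat.of k)).symm.commRingCatIsoToRingEquiv.toAddEquiv with
      map_smul' := fun t x => by
        change (Scheme.ΓSpecIso (CommRingCat.of k)).inv.hom (t * x) =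
          Dix.InterNum.glo (𝟙 (Spec (CommRingCat.of k))) t * (Scheme.ΓSpecIso (CommRingCat.of k)).inv.hom x
        rw [map_mul, hglo] }
  rw [← e'.finrank_eq, Module.finrank_self]

end Point

theorem isCoh_aux {X : Scheme.{u}} {L : X.Modules} (hL : PicF.IsInvertible L) : Coh.IsCoh L :=
  VarietyA.EulerFinite.isCoh_of_iso (Ega2.Tens.lunit L)
    (Fga.TwistCoh.isCoh_tensor (CurvesB.UnitCoh.isCoh_structureModule X) hL)

section Drop

variable {L Q : X.Modules}

omit [X.Over (Spec (CommRingCat.of k))] [IsProper (X ↘ (Spec (CommRingCat.of k)))] in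
/-- A map killing `H^0` kills every section. -/
theorem comp_eq_zero (s : Coh.structureModule X ⟶ L) (q : L ⟶ Q) (h : mapΓ q 0 = 0) :
    s ≫ q = 0 := by
  have h1 : q.app ⊤ (sec s ⊤) = 0 := by
    obtain ⟨a, ha⟩ := (VarietyA.H0Equiv.hZeroEquiv L).surjective (sec s ⊤)
    have h2 := Sheaf.H.equiv₀_naturality (VarietyA.H0Equiv.isTerminalTop X) ((toAbF X).map q) a
    have h3 : Sheaf.H.map ((toAbF X).map q) 0 a = 0 := by
      have := LinearMap.congr_fun h a
      exact this
    rw [h3, map_zero] at h2
    rw [← ha]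
    exact h2
  have h2 : sec (s ≫ q) ⊤ = 0 := h1
  ext V m
  have h3 := app_ofFun (s ≫ q) (ofFun.symm m)
  rw [← res_sec (s ≫ q) (le_top (a := V)), h2, map_zero, smul_zero] at h3
  exact h3

variable {k} (P : Spec (CommRingCat.of k) ⟶ X) (hP : P ≫ (X ↘ (Spec (CommRingCat.of k))) = 𝟙 _)

omit [X.Over (Spec (CommRingCat.of k))] [IsProper (X ↘ (Spec (CommRingCat.of k)))] in
theorem support_X₃ (hL : PicF.IsInvertible L) :
    CohB1.support (seq L P.ker).X₃ ⊆ (P.ker.support : Set X) := by
  rw [CohqB.DevSupport.support_congr (iso₃ L P.ker)]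
  exact (Fga.TwistCoh.support_tensor_subset hL).trans
    (VarietyB.DegCartier.support_quotMod_subset P.ker)

include hP in
theorem finrank_X₃ (hL : PicF.IsInvertible L) :
    Module.finrank k (Coh.HH X (seq L P.ker).X₃ 0) = 1 := by
  rw [(equivA k (iso₃ L P.ker) 0).finrank_eq, finrank_tensor k hL P.ker (dim_support P hP),
    finrank_point P hP]

include hP in
/-- The value at `P` of a section generating at `P` is nonzero. -/
theorem mapA_ne_zero (hL : PicF.IsInvertible L) (s : Coh.structureModule X ⟶ L)
    (hs : pt P ∈ CohB1.genLocus L s) : mapA k (seq L P.ker).g 0 ≠ 0 := by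
  intro h0
  have hS := seq_shortExact hL P.ker
  have := hS.epi_g
  let q : L ⟶ (seq L P.ker).X₃ := (iso₂ L P.ker).inv ≫ (seq L P.ker).g
  have hq : mapΓ q 0 = 0 := by
    rw [mapΓ_comp]
    have : mapΓ (seq L P.ker).g 0 = 0 := by
      ext x
      exact LinearMap.congr_fun h0 x
    rw [this, LinearMap.zero_comp]
  have hsq := comp_eq_zero s q hq
  have hz : IsZero (seq L P.ker).X₃ := by
    refine CohqB.DevSupport.isZero_of_support_eq_empty (Set.eq_empty_iff_forall_notMem.2 ?_)
    intro x hx
    by_cases hxg : x ∈ CohB1.genLocus L s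
    · refine CohqB.DevSupport.not_mem_support_of_sections _ (CohB1.genLocus L s) (fun V hV => ?_)
        x hxg hx
      exact ⟨fun a b => (Old.H24.SecondSection.subsingleton_cokernel s q hsq hV a).trans
        (Old.H24.SecondSection.subsingleton_cokernel s q hsq hV b).symm⟩
    · have h1 := support_X₃ P hL hx
      rw [support_ker P hP, Set.mem_singleton_iff] at h1
      exact hxg (h1 ▸ hs)
  have h1 : mapA k (𝟙 (seq L P.ker).X₃) 0 = 0 := by
    rw [hz.eq_of_src (𝟙 _) 0]
    ext x
    exact LinearMap.congr_fun (mapΓ_zero _ _ 0) x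
  have h2 : Subsingleton (Coh.HH X (seq L P.ker).X₃ 0) := by
    refine ⟨fun a b => ?_⟩
    have h3 : ∀ c, c = (0 : Coh.HH X (seq L P.ker).X₃ 0) := by
      intro c
      have := LinearMap.congr_fun h1 c
      rwa [mapA_id] at this
    rw [h3 a, h3 b]
  have h3 := finrank_X₃ P hP hL
  rw [Module.finrank_zero_of_subsingleton] at h3
  exact zero_ne_one h3

include hP in
/-- Twisting down by a rational point where some section generates. -/
theorem finrank_of_mem_genLocus (hL : PicF.IsInvertible L) (s : Coh.structureModule X ⟶ L)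
    (hs : pt P ∈ CohB1.genLocus L s) :
    Module.finrank k (Coh.HH X (CohB1.tensorMod L (ClSub.idealMod P.ker)) 0) + 1 =
      Module.finrank k (Coh.HH X L 0) ∧
    Module.finrank k (Coh.HH X (CohB1.tensorMod L (ClSub.idealMod P.ker)) 1) =
      Module.finrank k (Coh.HH X L 1) := by
  have := isNoetherian_of_proper k X
  have hS := seq_shortExact hL P.ker
  have f2 : Module.Finite k (Coh.HH X (seq L P.ker).X₂ 0) :=
    S0002.result k X _ (VarietyA.EulerFinite.isCoh_of_iso (iso₂ L P.ker).symm
      (isCoh_aux hL)) 0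
  have f3 : Module.Finite k (Coh.HH X (seq L P.ker).X₃ 0) :=
    S0002.result k X _ (isCoh_X₃ hL P.ker) 0
  have f1 : ∀ n, Module.Finite k (Coh.HH X (seq L P.ker).X₁ n) := fun n =>
    S0002.result k X _ (VarietyA.EulerFinite.isCoh_of_iso (iso₁ L P.ker)
      (Fga.TwistCoh.isCoh_tensor (VarietyB.DegCartier.isCoh_idealMod P.ker) hL)) n
  have hd1 := finrank_X₃ P hP hL
  have hT : Subsingleton (Coh.HH X (seq L P.ker).X₃ 1) := by
    have := subsingleton_tensor k hL P.ker (dim_support P hP) 1 le_rfl
    exact (equivA k (iso₃ L P.ker) 1).toEquiv.subsingleton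
  have hne := mapA_ne_zero P hP hL s hs
  have hsurj : Function.Surjective (mapA k (seq L P.ker).g 0) := by
    obtain ⟨a, ha⟩ : ∃ a, mapA k (seq L P.ker).g 0 a ≠ 0 := by
      by_contra h
      push Not at h
      exact hne (LinearMap.ext h)
    intro y
    obtain ⟨c, hc⟩ := exists_smul_eq_of_finrank_eq_one hd1 ha y
    exact ⟨c • a, by rw [map_smul, hc]⟩
  have hinj := injectiveA₀ k (seq L P.ker) hS
  have he2 := exactA₂ k (seq L P.ker) hS 0
  have e1 := LinearMap.finrank_range_add_finrank_ker (mapA k (seq L P.ker).g 0)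
  rw [LinearMap.range_eq_top.mpr hsurj, finrank_top, hd1] at e1
  rw [LinearMap.exact_iff] at he2
  rw [he2, LinearMap.finrank_range_of_inj hinj] at e1
  have e2 := finrank_of_shortExact k (seq L P.ker) hS hT
  rw [hd1] at e2
  rw [(equivA k (iso₂ L P.ker) 0).finrank_eq] at e1 e2
  rw [(equivA k (iso₂ L P.ker) 1).finrank_eq] at e2
  constructor
  · change Module.finrank k (Coh.HH X (seq L P.ker).X₁ 0) + 1 = _
    omega
  · change Module.finrank k (Coh.HH X (seq L P.ker).X₁ 1) = _
    omega

end Drop

end K533.PtTwist
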