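import Groth.Agent.JacVar.K533.TwoPt
import Groth.Agent.JacVar.K532.Fine
import Mathlib.AlgebraicGeometry.AlgClosed.Basic

/-!
# Two isomorphisms of curves inducing the same map of Jacobians up to translation

`X` is a smooth proper curve of genus at least two over an algebraically closed field, `J` its Jacobian with
the Abel map `j` (in the form of classes `cls`).  If `a : Y ⟶ X` and an isomorphism `b : Y ⟶ X` satisfy
`j(a u) - j(a v) = j(b u) - j(b v)` for all rational points `u`, `v` of `Y` then `a = b` (`hom_eq`).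
-/

set_option autoImplicit false
universe u
open CategoryTheory CategoryTheory.Limits AlgebraicGeometry

namespace K533.TwoIso

theorem grp_aux {G : Type*} [CommGroup G] (p q r s : G) (h : p⁻¹ * r = q⁻¹ * s) :
    p⁻¹ * q * s⁻¹ = r⁻¹ := by
  apply eq_inv_of_mul_eq_one_left
  have h5 : p⁻¹ * q * s⁻¹ * r = (p⁻¹ * r) * (q * s⁻¹) := by
    rw [mul_assoc p⁻¹, mul_assoc p⁻¹, mul_comm (q * s⁻¹) r, ← mul_assoc p⁻¹]
  rw [h5, h, mul_mul_mul_comm, inv_mul_cancel, mul_inv_cancel, one_mul]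

open MonObj MonoidalCategory CartesianMonoidalCategory

open Groth.Agent Groth.Agent.Grpsch.PicGrp Groth.Agent.Fga.RigGrp Groth.Agent.Fga.JacSum Groth.Agent.Fga
open Groth.Agent.Sga7.H732.Hedge Groth.Agent.Sga7.H732.Abel
open K532.CurvePic K532.UnitBase K533.TwoPt K533.PtTwist

variable {k : Type u} [Field k] {X : Scheme.{u}} [X.Over (Spec (CommRingCat.of k))]

section

variable (hX : IsCurve k X) [SmoothOfRelativeDimension 1 (X ↘ (Spec (CommRingCat.of k)))]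
  [IsSeparated (X ↘ (Spec (CommRingCat.of k)))] [QuasiCompact (X ↘ (Spec (CommRingCat.of k)))]
  {σ : Spec (CommRingCat.of k) ⟶ X} {hσ : σ ≫ (X ↘ (Spec (CommRingCat.of k))) = 𝟙 _}
  {J : Over (Spec (CommRingCat.of k))} [GrpObj J]
  {ξ : Pic (PicF.XT (X ↘ (Spec (CommRingCat.of k))) J)}
  (hJ : IsJac (X ↘ (Spec (CommRingCat.of k))) σ hσ J ξ)
  {j : Over.mk (X ↘ (Spec (CommRingCat.of k))) ⟶ J}
  (hj : ∀ (T : Over (Spec (CommRingCat.of k))) (z : Pt (X ↘ (Spec (CommRingCat.of k))) T),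
    cls hJ T (ptHom z ≫ j) = acl (X ↘ (Spec (CommRingCat.of k))) σ hσ z)

omit [QuasiCompact (X ↘ (Spec (CommRingCat.of k)))] in
include hj in
/-- The class on `X` of the image of a rational point under the Abel map. -/
theorem pull_ui_cls (u : Spec (CommRingCat.of k) ⟶ X) (hu : u ≫ (X ↘ (Spec (CommRingCat.of k))) = 𝟙 _) :
    pull (ui (X ↘ (Spec (CommRingCat.of k)))) (cls hJ (𝟙_ _) (ptHom (K532.UnitBase.pt _ u hu) ≫ j)) =
      (io hX u hu)⁻¹ * io hX σ hσ := by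
  rw [hj]
  have h1 := JacAlg.acl_field (X ↘ (Spec (CommRingCat.of k))) σ hσ k (𝟙 _) (K532.UnitBase.pt _ u hu)
  refine (congrArg (pull (ui (X ↘ (Spec (CommRingCat.of k))))) h1).trans ?_
  rw [map_mul, map_inv]
  have h2 := pull_ui_gcl (X ↘ (Spec (CommRingCat.of k))) u hu
  have h3 := pull_ui_gcl (X ↘ (Spec (CommRingCat.of k))) σ hσ
  have h4 : Pt.ofSection hσ (Over.mk (𝟙 (Spec (CommRingCat.of k)))) = K532.UnitBase.pt _ σ hσ :=
    Subtype.ext (Category.id_comp σ)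
  rw [h4]
  exact congrArg₂ (fun a b : Pic X => a⁻¹ * b) h2 h3

omit [QuasiCompact (X ↘ (Spec (CommRingCat.of k)))] in
include hj in
theorem io_rel (u v u' v' : Spec (CommRingCat.of k) ⟶ X)
    (hu : u ≫ (X ↘ (Spec (CommRingCat.of k))) = 𝟙 _) (hv : v ≫ (X ↘ (Spec (CommRingCat.of k))) = 𝟙 _)
    (hu' : u' ≫ (X ↘ (Spec (CommRingCat.of k))) = 𝟙 _) (hv' : v' ≫ (X ↘ (Spec (CommRingCat.of k))) = 𝟙 _)
    (h : (ptHom (K532.UnitBase.pt _ u hu) ≫ j) * (ptHom (K532.UnitBase.pt _ v hv) ≫ j)⁻¹ =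
      (ptHom (K532.UnitBase.pt _ u' hu') ≫ j) * (ptHom (K532.UnitBase.pt _ v' hv') ≫ j)⁻¹) :
    (io hX u hu)⁻¹ * io hX v hv = (io hX u' hu')⁻¹ * io hX v' hv' := by
  have h1 := congrArg (fun z => pull (ui (X ↘ (Spec (CommRingCat.of k)))) (cls hJ (𝟙_ _) z)) h
  simp only [map_mul, map_inv] at h1
  rw [pull_ui_cls hX hJ hj, pull_ui_cls hX hJ hj, pull_ui_cls hX hJ hj, pull_ui_cls hX hJ hj] at h1
  have h2 : ∀ a b c : Pic X, a⁻¹ * c * (b⁻¹ * c)⁻¹ = a⁻¹ * b := by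
    intro a b c
    group
  rwa [h2, h2] at h1

include hX hj in
theorem hom_eq [IsAlgClosed k] (hg : 2 ≤ gen k X) {Y : Scheme.{u}} [Y.Over (Spec (CommRingCat.of k))]
    [IsReduced Y] [LocallyOfFiniteType (Y ↘ (Spec (CommRingCat.of k)))] (a b : Y ⟶ X) [IsIso b]
    (ha : a ≫ (X ↘ (Spec (CommRingCat.of k))) = (Y ↘ (Spec (CommRingCat.of k))))
    (hb : b ≫ (X ↘ (Spec (CommRingCat.of k))) = (Y ↘ (Spec (CommRingCat.of k))))
    (H : ∀ (u v : Spec (CommRingCat.of k) ⟶ Y) (hu : u ≫ (Y ↘ (Spec (CommRingCat.of k))) = 𝟙 _)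
      (hv : v ≫ (Y ↘ (Spec (CommRingCat.of k))) = 𝟙 _),
      (ptHom (K532.UnitBase.pt _ (u ≫ a) (by rw [Category.assoc, ha, hu])) ≫ j) *
        (ptHom (K532.UnitBase.pt _ (v ≫ a) (by rw [Category.assoc, ha, hv])) ≫ j)⁻¹ =
      (ptHom (K532.UnitBase.pt _ (u ≫ b) (by rw [Category.assoc, hb, hu])) ≫ j) *
        (ptHom (K532.UnitBase.pt _ (v ≫ b) (by rw [Category.assoc, hb, hv])) ≫ j)⁻¹) : a = b := by
  have := hX.proper
  have : LocallyOfFiniteType (a ≫ (X ↘ (Spec (CommRingCat.of k)))) := by rw [ha]; infer_instance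
  refine ext_of_apply_eq (X ↘ (Spec (CommRingCat.of k))) Set.univ isClosed_univ.isLocallyClosed
    dense_univ (fun y _ hy => ?_) (ha.trans hb.symm)
  -- the rational point `u` of `Y` at `y`
  let u : Spec (CommRingCat.of k) ⟶ Y := pointOfClosedPoint (Y ↘ (Spec (CommRingCat.of k))) y hy
  have hu : u ≫ (Y ↘ (Spec (CommRingCat.of k))) = 𝟙 _ := pointOfClosedPoint_comp _ _ _
  have huy : u (IsLocalRing.closedPoint k) = y := pointOfClosedPoint_apply _ _ _ _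
  have hua : (u ≫ a) ≫ (X ↘ (Spec (CommRingCat.of k))) = 𝟙 _ := by rw [Category.assoc, ha, hu]
  have hub : (u ≫ b) ≫ (X ↘ (Spec (CommRingCat.of k))) = 𝟙 _ := by rw [Category.assoc, hb, hu]
  have hpa : K533.PtTwist.pt (u ≫ a) = a y := by rw [← huy]; rfl
  have hpb : K533.PtTwist.pt (u ≫ b) = b y := by rw [← huy]; rfl
  rw [← hpa, ← hpb]
  by_contra hne
  let c : Pic X := (io hX _ hua)⁻¹ * io hX _ hub
  have hc0 : deg k X c = 0 := by
    rw [deg_mul hX, deg_inv hX, deg_io hX, deg_io hX]; rfl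
  have hc1 : c ≠ 1 := by
    intro h1
    refine hne (pt_eq_of_io_eq hX (by omega) _ hua _ hub ?_)
    exact (inv_mul_eq_one.1 h1)
  obtain ⟨z, hz, -, h0⟩ := exists_h0_eq_zero hX hg hc0 hc1 ⊤ (by
    have := hX.integral
    exact Set.univ_nonempty)
  let v : Spec (CommRingCat.of k) ⟶ Y := z ≫ inv b
  have hv : v ≫ (Y ↘ (Spec (CommRingCat.of k))) = 𝟙 _ := by
    rw [Category.assoc, ← hb, IsIso.inv_hom_id_assoc, hz]
  have hva : (v ≫ a) ≫ (X ↘ (Spec (CommRingCat.of k))) = 𝟙 _ := by rw [Category.assoc, ha, hv]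
  have hvb : (v ≫ b) ≫ (X ↘ (Spec (CommRingCat.of k))) = 𝟙 _ := by rw [Category.assoc, hb, hv]
  have h1 := io_rel hX hJ hj _ _ _ _ hua hva hub hvb (H u v hu hv)
  have h2 : io hX (v ≫ b) hvb = io hX z hz := by
    have : v ≫ b = z := by rw [Category.assoc, IsIso.inv_hom_id, Category.comp_id]
    congr 1
  have h3 : c * (io hX z hz)⁻¹ = (io hX _ hva)⁻¹ := by
    rw [← h2]
    exact grp_aux _ _ _ _ h1
  rw [h3] at h0
  exact (h0_io_inv hX _ hva).ne' h0

end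

end K533.TwoIso
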