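import Groth.Agent.Hensel.JacTan
import Mathlib.AlgebraicGeometry.Limits
import Mathlib.AlgebraicGeometry.Morphisms.ClosedImmersion
import Mathlib.AlgebraicGeometry.Morphisms.FinitePresentation
import Mathlib.RingTheory.Nakayama
import Mathlib.RingTheory.Noetherian.Nilpotent
import Mathlib.LinearAlgebra.Dual.Lemmas

/-!
# A scheme with one rational point and no tangent vectors is the base point
-/

set_option autoImplicit false
set_option backward.isDefEq.respectTransparency false
universe u
open CategoryTheory CategoryTheory.Limits AlgebraicGeometry TopologicalSpace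

namespace K533.PtIso

open Groth.Agent.Hensel.JacTan Groth.Agent.Hensel.JacDer

section alg

variable {k R : Type u} [Field k] [CommRing R] [Algebra k R] (ε : R →ₐ[k] k)

/-- Without derivations the augmentation ideal is idempotent. -/
theorem ker_le_sq (h : ∀ D : Der ε, D = 0) : RingHom.ker ε ≤ RingHom.ker ε * RingHom.ker ε := by
  intro a ha
  by_contra hna
  let q : R →ₗ[k] (R ⧸ (RingHom.ker ε * RingHom.ker ε)) :=
    (Ideal.Quotient.mkₐ k (RingHom.ker ε * RingHom.ker ε)).toLinearMap
  have hq : ∀ x, q x = 0 ↔ x ∈ RingHom.ker ε * RingHom.ker ε := fun x => Ideal.Quotient.eq_zero_iff_mem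
  have h1 : q a ≠ 0 := fun h0 => hna ((hq a).1 h0)
  obtain ⟨ℓ, hℓ⟩ := Module.Projective.exists_dual_ne_zero k h1
  have hk : ∀ x, x - algebraMap k R (ε x) ∈ RingHom.ker ε := by
    intro x
    rw [RingHom.mem_ker, map_sub, AlgHom.commutes]
    simp
  let D : R →ₗ[k] k := ℓ ∘ₗ q ∘ₗ (LinearMap.id - (Algebra.linearMap k R) ∘ₗ ε.toLinearMap)
  have hD : ∀ x, D x = ℓ (q (x - algebraMap k R (ε x))) := fun x => rfl
  have hD' : D ∈ Der ε := by
    intro x y
    rw [hD, hD, hD]
    have e1 : q ((x - algebraMap k R (ε x)) * (y - algebraMap k R (ε y))) = 0 :=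
      (hq _).2 (Ideal.mul_mem_mul (hk x) (hk y))
    have e2 : x * y - algebraMap k R (ε (x * y)) =
        (x - algebraMap k R (ε x)) * (y - algebraMap k R (ε y)) +
          (ε x) • (y - algebraMap k R (ε y)) + (ε y) • (x - algebraMap k R (ε x)) := by
      rw [map_mul, map_mul, Algebra.smul_def, Algebra.smul_def]
      ring
    rw [e2]
    simp only [map_add, map_smul, e1, zero_add, smul_eq_mul]
  have h2 := h ⟨D, hD'⟩
  have h3 : D a = 0 := LinearMap.congr_fun (congrArg Subtype.val h2) a
  rw [hD, RingHom.mem_ker.1 ha, map_zero, sub_zero] at h3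
  exact hℓ h3

/-- Without derivations and with finitely generated nil kernel, the augmentation is bijective. -/
theorem injective_of_der (h : ∀ D : Der ε, D = 0) (hfg : (RingHom.ker ε).FG)
    (hnil : RingHom.ker ε ≤ nilradical R) : Function.Injective ε := by
  have h1 : RingHom.ker ε = ⊥ := by
    refine Submodule.eq_bot_of_le_smul_of_le_jacobson_bot _ _ hfg (ker_le_sq ε h) (hnil.trans ?_)
    exact Ideal.radical_le_jacobson
  exact (RingHom.injective_iff_ker_eq_bot _).2 h1

end alg

section scheme

variable {k : Type u} [Field k] {H : Over (Spec (CommRingCat.of k))}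

/-- **A rational point which is surjective, of finite presentation and without tangent vectors is everything.** -/
theorem isIso_of_tangent (x : pt k ⟶ H) [IsClosedImmersion x.left] [LocallyOfFinitePresentation x.left]
    [Surjective x.left] (htan : ∀ v : T k 1 ⟶ H, i k 1 ≫ v = x → v = p k 1 ≫ x) : IsIso x.left := by
  have hsub : Subsingleton H.left := by
    refine ⟨fun a b => ?_⟩
    obtain ⟨a, rfl⟩ := x.left.surjective a
    obtain ⟨b, rfl⟩ := x.left.surjective b
    exact congrArg _ (Subsingleton.elim (α := PrimeSpectrum k) a b)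
  have haff : IsAffine H.left := inferInstance
  let R : CommRingCat := Γ(H.left, ⊤)
  let e : H.left ≅ Spec R := H.left.isoSpec
  let c : CommRingCat.of k ⟶ R := Spec.preimage (e.inv ≫ H.hom)
  have hc : Spec.map c = e.inv ≫ H.hom := Spec.map_preimage _
  let _ : Algebra k R := c.hom.toAlgebra
  let ρ : R ⟶ CommRingCat.of k := Spec.preimage (x.left ≫ e.hom)
  have hρ : Spec.map ρ = x.left ≫ e.hom := Spec.map_preimage _
  have hcρ : c ≫ ρ = 𝟙 _ := by
    apply Spec.map_injective
    rw [Spec.map_comp, hc, hρ, Category.assoc, Iso.hom_inv_id_assoc, Spec.map_id]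
    exact Over.w x
  let ε : R →ₐ[k] k := { ρ.hom with commutes' := fun a => DFunLike.congr_fun (congrArg CommRingCat.Hom.hom hcρ) a }
  have hε : ∀ a, ε a = ρ.hom a := fun a => rfl
  have hw : ∀ (B : Type u) [CommRing B] [Algebra k B] (φ : R →ₐ[k] B),
      (Spec.map (CommRingCat.ofHom φ.toRingHom) ≫ e.inv) ≫ H.hom =
        Spec.map (CommRingCat.ofHom (algebraMap k B)) := by
    intro B _ _ φ
    rw [Category.assoc, ← hc, ← Spec.map_comp]
    congr 1
    ext a
    exact φ.commutes a
  have h1 : ∀ D : Der ε, D = 0 := by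
    intro D
    let v : T k 1 ⟶ H := Over.homMk (Spec.map (CommRingCat.ofHom (homOfDer ε (r := 1) (fun _ => D)).toRingHom) ≫
      e.inv) (hw _ _)
    have hv : i k 1 ≫ v = x := by
      ext1
      change Spec.map _ ≫ Spec.map _ ≫ e.inv = x.left
      rw [← Category.assoc, ← Spec.map_comp, ← CommRingCat.ofHom_comp]
      have e1 : (aug k 1).toRingHom.comp (homOfDer ε (r := 1) (fun _ => D)).toRingHom = ρ.hom := by
        ext a
        exact DFunLike.congr_fun (aug_homOfDer ε (r := 1) (fun _ => D)) a
      rw [e1]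
      change Spec.map ρ ≫ e.inv = x.left
      rw [hρ, Category.assoc, Iso.hom_inv_id, Category.comp_id]
    have h2 := congrArg (fun z => z.left ≫ e.hom) (htan v hv)
    have h3 : Spec.map (CommRingCat.ofHom (homOfDer ε (r := 1) (fun _ => D)).toRingHom) =
        Spec.map (ρ ≫ CommRingCat.ofHom (algebraMap k (Sq k 1))) := by
      rw [Spec.map_comp, hρ]
      change (Spec.map _ ≫ e.inv) ≫ e.hom = ((p k 1).left ≫ x.left) ≫ e.hom at h2
      rw [Category.assoc, Iso.inv_hom_id, Category.comp_id, Category.assoc] at h2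
      exact h2
    have h4 := congrArg CommRingCat.Hom.hom (Spec.map_injective h3)
    apply Subtype.ext
    ext a
    have h5 := congrArg (fun z : Sq k 1 => z.snd 0) (DFunLike.congr_fun h4 a)
    change (homOfDer ε (r := 1) (fun _ => D) a).snd 0 = (algebraMap k (Sq k 1) (ρ.hom a)).snd 0 at h5
    rw [homOfDer_apply] at h5
    simpa [TrivSqZeroExt.algebraMap_eq_inl] using h5
  have hsurj : Function.Surjective ε := fun a => ⟨algebraMap k R a, by rw [AlgHom.commutes]; rfl⟩
  have hfp : LocallyOfFinitePresentation (Spec.map ρ) := by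
    rw [hρ]
    infer_instance
  have hfp' : ρ.hom.FinitePresentation := (LocallyOfFinitePresentation.SpecMap_iff ρ).1 hfp
  have hfg : (RingHom.ker ε).FG := by
    let _ : Algebra R k := ρ.hom.toAlgebra
    have : Algebra.FinitePresentation R k := hfp'
    exact Algebra.FinitePresentation.ker_fG_of_surjective (Algebra.ofId R k) hsurj
  have hs : Surjective (Spec.map ρ) := by
    rw [hρ]
    infer_instance
  have hnil : RingHom.ker ε ≤ nilradical R := by
    intro a ha
    rw [mem_nilradical, nilpotent_iff_mem_prime]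
    intro P hP
    obtain ⟨Q, hQ⟩ := (Spec.map ρ).surjective (⟨P, hP⟩ : PrimeSpectrum R)
    have h2 : P = Ideal.comap ρ.hom Q.asIdeal := by
      have := congrArg PrimeSpectrum.asIdeal hQ
      exact this.symm
    rw [h2, Ideal.mem_comap]
    have h3 : ρ.hom a = 0 := ha
    rw [h3]
    exact zero_mem _
  have hinj := injective_of_der ε h1 hfg hnil
  have hiso : IsIso ρ := by
    rw [ConcreteCategory.isIso_iff_bijective]
    exact ⟨hinj, hsurj⟩
  have h6 : IsIso (x.left ≫ e.hom) := by
    rw [← hρ]
    infer_instance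
  exact IsIso.of_isIso_comp_right x.left e.hom

end scheme

end K533.PtIso
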