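import Groth.Agent.JacVar.K533.DualPts
import Groth.Agent.JacVar.K533.PtIso
import Groth.Agent.AbSch.K452.LamKer

/-!
# A homomorphism `fd : At ⟶ A` with `λ ≫ fd = inv` satisfies `fd ≫ λ = inv`
-/

set_option autoImplicit false
set_option backward.isDefEq.respectTransparency false
set_option linter.unusedSectionVars false
universe u
open CategoryTheory CategoryTheory.Limits AlgebraicGeometry Opposite TopologicalSpace MonObj MonoidalCategory
  CartesianMonoidalCategory

namespace K533.DualKer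

open Groth.Agent Groth.Agent.Grpsch Groth.Agent.Grpsch.PicGrp Groth.Agent.Fga.RigGrp
open K732.PicZero K732.Dual K732.Prim K528.MumZero
open Groth.Agent.Hensel.JacTan

section ker

variable {S : Scheme.{u}} {A B : Over S} [GrpObj A] [GrpObj B] (f : B ⟶ A)

/-- The kernel. -/
noncomputable def ker : Over S := Over.mk (pullback.fst f.left η[A].left ≫ B.hom)

/-- The inclusion of the kernel. -/
noncomputable def kι : ker f ⟶ B := Over.homMk (pullback.fst f.left η[A].left) rfl

theorem one_left {T : Over S} : (1 : T ⟶ A).left = T.hom ≫ η[A].left := by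
  rw [← MonObj.comp_one (toUnit T)]
  have : (1 : 𝟙_ (Over S) ⟶ A) = η[A] := by
    rw [MonObj.one_eq_one]
  rw [this, Over.comp_left]
  congr 1

theorem kι_comp : kι f ≫ f = 1 := by
  ext1
  rw [one_left, Over.comp_left]
  have h1 : (kι f).left ≫ f.left = pullback.snd f.left η[A].left ≫ η[A].left := pullback.condition
  rw [h1]
  congr 1
  have h2 : η[A].left ≫ A.hom = 𝟙 S := Over.w η[A]
  have h3 : (ker f).hom = pullback.fst f.left η[A].left ≫ B.hom := rfl
  rw [h3, ← Over.w f, ← Category.assoc, pullback.condition, Category.assoc]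
  exact (congrArg (_ ≫ ·) h2).trans (Category.comp_id _) |>.symm

theorem exists_kι {T : Over S} (y : T ⟶ B) (hy : y ≫ f = 1) : ∃ z : T ⟶ ker f, z ≫ kι f = y := by
  have h1 : y.left ≫ f.left = T.hom ≫ η[A].left := by
    rw [← one_left, ← hy]
    rfl
  refine ⟨Over.homMk (pullback.lift y.left T.hom h1) ?_, ?_⟩
  · change pullback.lift _ _ _ ≫ pullback.fst _ _ ≫ B.hom = T.hom
    rw [pullback.lift_fst_assoc, Over.w]
  · ext1
    exact pullback.lift_fst _ _ _

instance mono_kι : Mono (kι f) := by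
  have h1 : IsSplitMono η[A].left := ⟨⟨⟨A.hom, Over.w η[A]⟩⟩⟩
  have h2 : Mono (pullback.fst f.left η[A].left) := inferInstance
  have h3 : Mono (kι f).left := h2
  exact Over.mono_of_mono_left _

end ker

variable {k : Type u} [Field k] {A At : Over (Spec (CommRingCat.of k))} [GrpObj A] [GrpObj At]
  [IsProper A.hom] [GeometricallyIntegral A.hom]

variable {φ : AgPol.DualMap A At} (hD : AbDual.IsDualAV Scheme.fppfPrecoverage A At φ)
  {ζ : Pic (PicF.XT A.hom At)} (h1 : ζ ∈ pz A.hom At) (h2 : ζ ∈ rg A At) (h3 : cm φ ζ = 𝟙 At)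
  (θ : Pic A.left) {l : A ⟶ At} (hl : pull (PicF.XTmap A.hom l) ζ = mumCl A θ)
  [IsMonHom l] {fd : At ⟶ A} [IsMonHom fd] (h : l ≫ fd = (𝟙 A)⁻¹)

theorem one_comp {S : Scheme.{u}} {X Y : Over S} [GrpObj X] [GrpObj Y] (f : X ⟶ Y) [IsMonHom f] {T : Over S} :
    (1 : T ⟶ X) ≫ f = 1 := MonObj.one_comp f

include h in
theorem eq_one_of_l {T : Over (Spec (CommRingCat.of k))} (a : T ⟶ A) (ha : a ≫ l = 1) : a = 1 := by
  have e := congrArg (fun z => z ≫ fd) ha
  simp only [Category.assoc, h, GrpObj.comp_inv, Category.comp_id, one_comp] at e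
  exact inv_eq_one.1 e

include hD h1 h2 h3 hl h in
/-- Geometric points killed by `fd` are trivial. -/
theorem eq_one_of_point {Ω : Type u} [Field Ω] [IsAlgClosed Ω]
    (t : Spec (CommRingCat.of Ω) ⟶ Spec (CommRingCat.of k)) (y : Over.mk t ⟶ At) (hy : y ≫ fd = 1) : y = 1 := by
  obtain ⟨a, rfl⟩ := DualPts.exists_point hD h1 h2 h3 θ hl t (fun a => eq_one_of_l h a) y
  rw [Category.assoc, h, GrpObj.comp_inv, Category.comp_id, inv_eq_one] at hy
  rw [hy, one_comp]

include hD h1 h2 h3 hl h in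
/-- The kernel of `fd` is trivial. -/
theorem kι_eq_one : kι fd = 1 := by
  have hF : ∀ T : Over (Spec (CommRingCat.of k)), Function.Bijective (PicF.XTproj A.hom T).appTop :=
    K732.CubeSec.bijective_XTproj A.hom
  obtain ⟨W, j, hj1, hj2, hj⟩ := K452.LamKer.exists_ker A.hom η[A].left (Over.w η[A]) (At := At) (φ := φ) hD
    (ker fd) (pull (PicF.XTmap A.hom (kι fd)) ζ) (fun Ω _ _ τ => pull_XTmap_mem (kι fd) h1 Ω τ)
  have e0 : φ (ker fd) (toCl (pull (PicF.XTmap A.hom (kι fd)) ζ)) = kι fd := by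
    have := cm_pull hD (kι fd) h1
    rw [h3, Category.comp_id] at this
    exact this
  rw [e0] at hj
  -- the unit point
  obtain ⟨eH, heH⟩ := exists_kι fd (1 : pt k ⟶ At) (one_comp fd)
  obtain ⟨e', he'⟩ := (hj _ eH).2 heH
  -- `j` is constant
  let xW : Over.mk (j ≫ (ker fd).hom) ⟶ ker fd := Over.homMk j rfl
  have hxW : xW ≫ kι fd = 1 := (hj _ xW).1 ⟨𝟙 W, Category.id_comp _⟩
  let q : Over.mk (j ≫ (ker fd).hom) ⟶ pt k := Over.homMk (j ≫ (ker fd).hom) (Category.comp_id _)
  have h4 : xW = q ≫ eH := by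
    rw [← cancel_mono (kι fd), hxW, Category.assoc, heH, MonObj.comp_one]
  have h5 : j = (j ≫ (ker fd).hom) ≫ e' ≫ j := by
    have := congrArg (fun z => z.left) h4
    change j = q.left ≫ eH.left at this
    rw [← he'] at this
    exact this
  have h6 : (j ≫ (ker fd).hom) ≫ e' = 𝟙 W := by
    rw [← cancel_mono j, Category.assoc, ← h5, Category.id_comp]
  have h7 : e' ≫ j ≫ (ker fd).hom = 𝟙 _ := by
    rw [← Category.assoc, he']
    exact Over.w eH
  have hiso : IsIso e' := ⟨⟨j ≫ (ker fd).hom, h7, h6⟩⟩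
  have hc : IsClosedImmersion eH.left := by
    rw [← he']
    infer_instance
  have hlfp : LocallyOfFinitePresentation eH.left := by
    rw [← he']
    infer_instance
  have hs : Surjective eH.left := by
    refine ⟨fun z => ?_⟩
    let Ω := AlgebraicClosure ((ker fd).left.residueField z)
    let s : Spec (CommRingCat.of Ω) ⟶ (ker fd).left :=
      Spec.map (CommRingCat.ofHom (algebraMap ((ker fd).left.residueField z) Ω)) ≫
        (ker fd).left.fromSpecResidueField z
    let x : Over.mk (s ≫ (ker fd).hom) ⟶ ker fd := Over.homMk s rfl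
    have hx : x ≫ kι fd = 1 := eq_one_of_point hD h1 h2 h3 θ hl h (s ≫ (ker fd).hom) (x ≫ kι fd)
      ((Category.assoc x (kι fd) fd).trans ((congrArg (x ≫ ·) (kι_comp fd)).trans (MonObj.comp_one x)))
    obtain ⟨g, hg⟩ := (hj _ x).2 hx
    have hz : s (IsLocalRing.closedPoint Ω) = z := by
      simp only [s, Scheme.Hom.comp_apply]
      exact Scheme.fromSpecResidueField_apply z _
    let r : Spec (CommRingCat.of Ω) ⟶ (pt k).left := g ≫ j ≫ (ker fd).hom
    have h8 : r ≫ eH.left = s := by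
      have e1 : (j ≫ (ker fd).hom) ≫ e' ≫ j = j := h5.symm
      have e2 : r ≫ eH.left = g ≫ (j ≫ (ker fd).hom) ≫ e' ≫ j := by
        rw [← he']
        exact Category.assoc g (j ≫ (ker fd).hom) (e' ≫ j)
      rw [e2, e1]
      exact hg
    exact ⟨r (IsLocalRing.closedPoint Ω), (Scheme.Hom.comp_apply r eH.left _).symm.trans
      ((congrArg (fun f : Spec (CommRingCat.of Ω) ⟶ (ker fd).left => f (IsLocalRing.closedPoint Ω)) h8).trans hz)⟩
  have hI : IsIso eH.left := by
    refine PtIso.isIso_of_tangent eH fun v hv => ?_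
    have h9 : v ≫ kι fd = 1 := by
      refine DualTan.eq_one_of_tangent hD h1 h2 h3 (one_comp l) h (v ≫ kι fd) ?_ ?_
      · rw [← Category.assoc, hv, heH]
      · rw [Category.assoc, kι_comp, MonObj.comp_one]
    rw [← cancel_mono (kι fd), h9, Category.assoc, heH, MonObj.comp_one]
  have hI' : IsIso eH := by
    have : IsIso ((Over.forget _).map eH) := hI
    exact isIso_of_reflects_iso eH (Over.forget _)
  rw [← cancel_epi eH, heH, MonObj.comp_one]

include hD h1 h2 h3 hl h in
theorem eq_one_of_fd {T : Over (Spec (CommRingCat.of k))} (y : T ⟶ At) (hy : y ≫ fd = 1) : y = 1 := by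
  obtain ⟨z, rfl⟩ := exists_kι fd y hy
  rw [kι_eq_one hD h1 h2 h3 θ hl h, MonObj.comp_one]

include hD h1 h2 h3 hl h in
/-- **`fd` is inverse to `λ` up to sign.** -/
theorem fd_comp_l : fd ≫ l = (𝟙 At)⁻¹ := by
  have e : (fd ≫ l) * 𝟙 At = 1 := by
    refine eq_one_of_fd hD h1 h2 h3 θ hl h _ ?_
    rw [MonObj.mul_comp, Category.assoc, h, GrpObj.comp_inv, Category.comp_id, Category.id_comp, inv_mul_cancel]
  exact eq_inv_of_mul_eq_one_left e

end K533.DualKer
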