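import Groth.Agent.JacVar.K533.ThetaBC
import Groth.Agent.Divis.IdealComap

/-!
# The ideal of the jump locus and the annihilator of the Cech `H¹`

`F` an invertible module on `X × J`, `Θ ⊆ J` a closed subset in which the points `z` with `H¹(X_z, F_z) ≠ 0` are dense.

* `annI_le`: over an affine open the annihilator of the Cech `H¹` of `F` is contained in the ideal of `Θ`;
* `le_comap`: `j : T ⟶ J`, `I` an ideal sheaf on `T` which locally kills the Cech `H¹` of `j^* F`, this Cech `H¹`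
  being locally generated by one element: then `I ≤ I_Θ O_T`.
-/

set_option autoImplicit false
set_option backward.isDefEq.respectTransparency false
universe u

open CategoryTheory CategoryTheory.Limits AlgebraicGeometry Opposite TopologicalSpace
open Groth.Agent Groth.Agent.Fdesc.LocGen Groth.Agent.Picfga.P1Def Groth.Agent.Picfga.SecBC
  Groth.Agent.Picfga.LatOf Groth.Agent.Picfga.LatH0 Groth.Agent.Picfga.PtStep
  Groth.Agent.Picfga.PicGood
open scoped TensorProduct

namespace K533.ThetaComap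

open ThetaBC

variable {k : Type u} [Field k] {X : Scheme.{u}} {f : X ⟶ Spec (CommRingCat.of k)} (P : P1Data f)

/-- The Cech `H¹` of `F` is generated by one element. -/
def Cyc (T : Over (Spec (CommRingCat.of k))) (F : (PicF.XT f T).Modules) : Prop :=
  ∃ m₀ : Sec f T F (P.U₀ ⊓ P.U₁), ∀ m : Sec f T F (P.U₀ ⊓ P.U₁),
      ∃ c : Γ(T.left, ⊤), m - c • m₀ ∈ LinearMap.range (dd P T F)

section iso

variable {T : Over (Spec (CommRingCat.of k))} {F F' : (PicF.XT f T).Modules} (φ : F ≅ F')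

lemma dd_appL (ψ : F ⟶ F') (x : Sec f T F P.U₀ × Sec f T F P.U₁) :
    dd P T F' (appL ψ P.U₀ x.1, appL ψ P.U₁ x.2) = appL ψ (P.U₀ ⊓ P.U₁) (dd P T F x) := by
  rw [dd_apply, dd_apply, map_sub, appL_resB, appL_resB]

lemma range_iff (m : Sec f T F (P.U₀ ⊓ P.U₁)) :
    m ∈ LinearMap.range (dd P T F) ↔ appL φ.hom _ m ∈ LinearMap.range (dd P T F') := by
  constructor
  · rintro ⟨x, rfl⟩
    exact ⟨_, dd_appL P φ.hom x⟩
  · rintro ⟨x, hx⟩
    refine ⟨_, (dd_appL P φ.inv x).trans ?_⟩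
    rw [hx]
    exact inv_app_hom_app φ _ _

include φ in
lemma Cyc.of_iso (h : Cyc P T F) : Cyc P T F' := by
  obtain ⟨m₀, hm₀⟩ := h
  refine ⟨appL φ.hom _ m₀, fun m => ?_⟩
  obtain ⟨c, hc⟩ := hm₀ (appL φ.inv _ m)
  refine ⟨c, ?_⟩
  rw [range_iff P φ, map_sub, map_smul] at hc
  have h1 : appL φ.hom _ (appL φ.inv _ m) = m := hom_app_inv_app φ _ _
  rwa [h1] at hc

include φ in
lemma annI_le_of_iso : annI P T F ≤ annI P T F' := by
  intro a ha
  rw [mem_annI] at ha ⊢
  intro m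
  have h2 := ha (appL φ.inv _ m)
  rw [range_iff P φ, map_smul] at h2
  have h1 : appL φ.hom _ (appL φ.inv _ m) = m := hom_app_inv_app φ _ _
  rwa [h1] at h2

include φ in
lemma annI_congr : annI P T F = annI P T F' :=
  le_antisymm (annI_le_of_iso P φ) (annI_le_of_iso P φ.symm)

end iso

section bc

variable {T T' : Over (Spec (CommRingCat.of k))} [IsAffine T.left] [IsAffine T'.left] (g : T' ⟶ T)
  {F : (PicF.XT f T).Modules} (hF : PicF.IsInvertible F)

include hF in
lemma exists_repr (m' : Sec f T' (pb f g F) (P.U₀ ⊓ P.U₁)) :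
    ∃ (ι : Type u) (s : Finset ι) (c : ι → Γ(T'.left, ⊤)) (m : ι → Sec f T F (P.U₀ ⊓ P.U₁)),
      m' = ∑ i ∈ s, c i • (show Sec f T' (pb f g F) (P.U₀ ⊓ P.U₁) from pbSec f g F _ (m i)) := by
  letI := algT g
  letI i (V : X.Opens) : Module Γ(T.left, ⊤) (Sec f T' (pb f g F) V) :=
    Module.compHom _ (algebraMap Γ(T.left, ⊤) Γ(T'.left, ⊤))
  haveI (V : X.Opens) : IsScalarTower Γ(T.left, ⊤) Γ(T'.left, ⊤) (Sec f T' (pb f g F) V) :=
    ⟨fun a b c => by rw [Algebra.smul_def, mul_smul]; rfl⟩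
  have hq := Ega2.QCohLocal.isQCoh_of_isInvertible hF
  have hb := isBaseChange_pbSecL f g (isAffineOpen_inf P) F hq
  induction m' using hb.inductionOn with
  | zero => exact ⟨PUnit, ∅, 0, 0, by simp⟩
  | tmul m => exact ⟨PUnit, Finset.univ, fun _ => 1, fun _ => m, by
      simp only [Finset.univ_unique, Finset.sum_singleton, one_smul]; rfl⟩
  | smul a m ih =>
    obtain ⟨ι, s, c, m₁, rfl⟩ := ih
    exact ⟨ι, s, fun i => a * c i, m₁, by rw [Finset.smul_sum]; simp_rw [smul_smul]⟩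
  | add x y hx hy =>
    classical
    obtain ⟨ι, s, c, m₁, rfl⟩ := hx
    obtain ⟨κ, t, d, m₂, rfl⟩ := hy
    refine ⟨ι ⊕ κ, s.disjSum t, Sum.elim c d, Sum.elim m₁ m₂, ?_⟩
    rw [Finset.sum_disjSum]
    simp

omit [IsAffine T.left] [IsAffine T'.left] in
lemma pbSec_add' (V : X.Opens) (a b : Sec f T F V) :
    (show Sec f T' (pb f g F) V from pbSec f g F V (a + b)) =
      (show Sec f T' (pb f g F) V from pbSec f g F V a) +
      (show Sec f T' (pb f g F) V from pbSec f g F V b) :=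
  map_add (pbSecL f g F V) a b

omit [IsAffine T.left] [IsAffine T'.left] in
lemma pbSec_smul' (V : X.Opens) (c : Γ(T.left, ⊤)) (a : Sec f T F V) :
    (show Sec f T' (pb f g F) V from pbSec f g F V (c • a)) =
      (g.left.appTop.hom c) • (show Sec f T' (pb f g F) V from pbSec f g F V a) := by
  letI := algT g
  letI i : Module Γ(T.left, ⊤) (Sec f T' (pb f g F) V) :=
    Module.compHom _ (algebraMap Γ(T.left, ⊤) Γ(T'.left, ⊤))
  exact (pbSecL f g F V).map_smul' c a

omit [IsAffine T.left] [IsAffine T'.left] in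
lemma pbSec_mem_range (m : Sec f T F (P.U₀ ⊓ P.U₁)) (hm : m ∈ LinearMap.range (dd P T F)) :
    (show Sec f T' (pb f g F) (P.U₀ ⊓ P.U₁) from pbSec f g F _ m) ∈
      LinearMap.range (dd P T' (pb f g F)) := by
  obtain ⟨x, rfl⟩ := hm
  exact ⟨_, dd_pbSec P g F x⟩

include hF in
lemma Cyc.pb (h : Cyc P T F) : Cyc P T' (pb f g F) := by
  obtain ⟨m₀, hm₀⟩ := h
  refine ⟨pbSec f g F _ m₀, fun m' => ?_⟩
  obtain ⟨ι, s, c, m, rfl⟩ := exists_repr P g hF m'
  choose d hd using hm₀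
  refine ⟨∑ i ∈ s, c i * g.left.appTop.hom (d (m i)), ?_⟩
  rw [Finset.sum_smul, ← Finset.sum_sub_distrib]
  refine Submodule.sum_mem _ fun i _ => ?_
  rw [mul_smul, ← smul_sub]
  refine Submodule.smul_mem _ _ ?_
  have h1 := pbSec_mem_range P g _ (hd (m i))
  rw [sub_eq_add_neg, pbSec_add', ← neg_one_smul Γ(T.left, ⊤), pbSec_smul', pbSec_smul', map_neg, map_one,
    neg_one_smul, ← sub_eq_add_neg] at h1
  exact h1

include hF in
lemma map_annI_le : (annI P T F).map g.left.appTop.hom ≤ annI P T' (Picfga.P1Def.pb f g F) := by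
  rw [Ideal.map_le_iff_le_comap]
  intro a ha
  rw [Ideal.mem_comap, mem_annI]
  rw [mem_annI] at ha
  intro m'
  obtain ⟨ι, s, c, m, rfl⟩ := exists_repr P g hF m'
  rw [Finset.smul_sum]
  refine Submodule.sum_mem _ fun i _ => ?_
  rw [smul_comm]
  refine Submodule.smul_mem _ _ ?_
  rw [← pbSec_smul']
  exact pbSec_mem_range P g _ (ha (m i))

end bc

/-- `H¹` at a point. -/
lemma h1van_pt_iff {T T' : Over (Spec (CommRingCat.of k))} (g : T' ⟶ T)
    (M : (PicF.XT f T).Modules) (hM : PicF.IsInvertible M) (t' : T'.left) :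
    H1van P (ptOver T' t') (pb f (ptHom T' t') (pb f g M)) ↔
      H1van P (ptOver T (g.left t')) (pb f (ptHom T (g.left t')) M) := by
  obtain ⟨φ, -⟩ := exists_pbComp f (ptMap g t') (ptHom T (g.left t')) (ptHom T' t' ≫ g)
    (ptMap_comp g t') M
  obtain ⟨ψ, -⟩ := exists_pbComp f (ptHom T' t') g (ptHom T' t' ≫ g) rfl M
  rw [h1van_iso_iff P (ψ ≪≫ φ.symm),
    h1van_field_iff P (ptMap g t') (isField_pt _) (isField_pt _) _ (isInvertible_pullback _ hM)]

/-- The whole affine scheme as an affine open. -/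
noncomputable abbrev tp (Y : Scheme.{u}) [IsAffine Y] : Y.affineOpens := ⟨⊤, isAffineOpen_top Y⟩

lemma mem_vanishingIdeal {Y : Scheme.{u}} (Z : Closeds Y) (U : Y.affineOpens) (a : Γ(Y, U.1))
    (h : ∀ z ∈ Z, z ∉ Y.basicOpen a) : a ∈ (Scheme.IdealSheafData.vanishingIdeal Z).ideal U := by
  rw [Scheme.IdealSheafData.vanishingIdeal_ideal, PrimeSpectrum.mem_vanishingIdeal]
  intro x hx
  by_contra hax
  refine h _ hx ?_
  have h1 : x ∈ U.2.fromSpec ⁻¹ᵁ Y.basicOpen a := by
    rw [U.2.fromSpec_preimage_basicOpen]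
    exact hax
  exact h1

lemma isUnit_pt {T : Over (Spec (CommRingCat.of k))} (t : T.left) (a : Γ(T.left, ⊤))
    (ht : t ∈ T.left.basicOpen a) : IsUnit ((ptHom T t).left.appTop.hom a) := by
  have hF := isField_pt (T := T) t
  by_contra hu
  have h0 : (ptHom T t).left.appTop.hom a = 0 := by
    by_contra h0
    obtain ⟨b, hb⟩ := hF.mul_inv_cancel h0
    exact hu (IsUnit.of_mul_eq_one b hb)
  have h1 : (ptHom T t).left ⁻¹ᵁ (T.left.basicOpen a) = ⊥ := by
    rw [Scheme.preimage_basicOpen_top]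
    change (ptOver T t).left.basicOpen ((ptHom T t).left.appTop.hom a) = ⊥
    rw [h0, Scheme.basicOpen_zero]
  have h2 : IsLocalRing.closedPoint (T.left.residueField t) ∈
      (ptHom T t).left ⁻¹ᵁ (T.left.basicOpen a) := by
    change T.left.fromSpecResidueField t _ ∈ T.left.basicOpen a
    rw [Scheme.fromSpecResidueField_apply]
    exact ht
  rw [h1] at h2
  exact h2

section theta

variable {J : Over (Spec (CommRingCat.of k))} {F : (PicF.XT f J).Modules}
  (hF : PicF.IsInvertible F) {Θ : Closeds J.left}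
  (hΘ : (Θ : Set J.left) ⊆ closure {z | ¬ H1van P (ptOver J z) (pb f (ptHom J z) F)})

include hF hΘ in
/-- Over an affine open the annihilator of the Cech `H¹` vanishes on `Θ`. -/
theorem annI_le {T : Over (Spec (CommRingCat.of k))} [IsAffine T.left] (ι : T ⟶ J)
    [IsOpenImmersion ι.left] :
    annI P T (pb f ι F) ≤ ((Scheme.IdealSheafData.vanishingIdeal Θ).comap ι.left).ideal (tp T.left) := by
  intro a ha
  let U : J.left.affineOpens := ⟨ι.left ''ᵁ ⊤, (isAffineOpen_top T.left).image_of_isOpenImmersion ι.left⟩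
  have e : (⊤ : T.left.Opens) ≤ ι.left ⁻¹ᵁ U.1 := fun t _ => ⟨t, trivial, rfl⟩
  rw [Divis.IdealComap.ideal_comap_of_isOpenImmersion _ ι.left U (tp T.left) e]
  obtain ⟨a₀, rfl⟩ : ∃ a₀ : Γ(J.left, U.1), (ι.left.appLE U.1 ⊤ e).hom a₀ = a := by
    refine ⟨(ι.left.appIso ⊤).inv a, ?_⟩
    rw [← Scheme.Hom.appIso_hom']
    exact congr($((ι.left.appIso ⊤).inv_hom_id) a)
  refine Ideal.mem_map_of_mem _ (mem_vanishingIdeal Θ U a₀ fun z hz hza => ?_)
  obtain ⟨z', hz', hz'D⟩ := mem_closure_iff.mp (hΘ hz) (J.left.basicOpen a₀) (J.left.basicOpen a₀).2 hza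
  obtain ⟨t, -, rfl⟩ : ∃ t, t ∈ (⊤ : T.left.Opens) ∧ ι.left t = z' := J.left.basicOpen_le a₀ hz'
  refine hz'D ?_
  rw [← h1van_pt_iff P ι F hF t]
  refine h1van_of_isUnit P (ptHom T t) (isInvertible_pullback _ hF) ha (isUnit_pt t _ ?_)
  have h3 : T.left.basicOpen (ι.left.appLE U.1 ⊤ e a₀) = ι.left ⁻¹ᵁ (J.left.basicOpen a₀) := by
    rw [Scheme.basicOpen_appLE]
    simp
  change t ∈ T.left.basicOpen (ι.left.appLE U.1 ⊤ e a₀)
  rw [h3]
  exact hz'

include hF hΘ in
/-- The local form of `le_comap`. -/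
theorem ideal_le {T : Over (Spec (CommRingCat.of k))} [IsAffine T.left] (j : T ⟶ J)
    {T₁ : Over (Spec (CommRingCat.of k))} [IsAffine T₁.left] (ι : T₁ ⟶ J) [IsOpenImmersion ι.left]
    (g : T ⟶ T₁) (hg : g ≫ ι = j) (hcyc : Cyc P T (pb f j F)) (I : Ideal Γ(T.left, ⊤))
    (hI : I ≤ annI P T (pb f j F)) :
    I ≤ ((Scheme.IdealSheafData.vanishingIdeal Θ).comap j.left).ideal (tp T.left) := by
  intro σ hσI
  have hσ := hI hσI
  obtain ⟨φ, -⟩ := exists_pbComp f g ι j hg F
  rw [← annI_congr P φ] at hσ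
  have hcyc' : Cyc P T (pb f g (pb f ι F)) := hcyc.of_iso P φ.symm
  set 𝔠 := ((Scheme.IdealSheafData.vanishingIdeal Θ).comap j.left).ideal (tp T.left) with h𝔠
  have hc : (annI P T₁ (pb f ι F)).map g.left.appTop.hom ≤ 𝔠 := by
    have h1 : 𝔠 = (((Scheme.IdealSheafData.vanishingIdeal Θ).comap ι.left).ideal
        (tp T₁.left)).map g.left.appTop.hom := by
      rw [h𝔠, ← hg, Over.comp_left, Scheme.IdealSheafData.comap_comp,
        Divis.IdealComap.ideal_comap_top]
    rw [h1]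
    exact Ideal.map_mono (annI_le P hF hΘ ι)
  -- the conductor of `σ` into `𝔠` is not contained in any maximal ideal
  by_contra hσ𝔠
  let 𝔡 : Ideal Γ(T.left, ⊤) := 𝔠.colon (Ideal.span {σ})
  have h𝔡 : 𝔡 ≠ ⊤ := by
    intro h
    apply hσ𝔠
    have h1 : (1 : Γ(T.left, ⊤)) ∈ 𝔡 := h ▸ Submodule.mem_top
    rw [Submodule.mem_colon] at h1
    have := h1 σ (Ideal.mem_span_singleton_self σ)
    rwa [one_smul] at this
  obtain ⟨m, hm, h𝔡m⟩ := Ideal.exists_le_maximal 𝔡 h𝔡
  obtain ⟨h, hh, hh'⟩ := exists_mul_mem P g (isInvertible_pullback _ hF)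
    (algebraMap Γ(T.left, ⊤) m.ResidueField) hcyc' hσ
  have h1 := hc hh'
  apply hh
  rw [Ideal.algebraMap_residueField_eq_zero]
  have h2 : g.left.appTop.hom (h * h) ∈ m := by
    apply h𝔡m
    rw [Submodule.mem_colon]
    intro x hx
    obtain ⟨y, rfl⟩ := Ideal.mem_span_singleton'.mp hx
    rw [smul_eq_mul, mul_left_comm]
    exact Ideal.mul_mem_left _ _ h1
  rw [map_mul] at h2
  exact (hm.isPrime.mem_or_mem h2).elim id id

/-- The open subscheme `V` of `T` as a scheme over `k`. -/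
noncomputable abbrev opn (T : Over (Spec (CommRingCat.of k))) (V : T.left.Opens) :
    Over (Spec (CommRingCat.of k)) := Over.mk (V.ι ≫ T.hom)

/-- Its inclusion. -/
noncomputable abbrev opnι (T : Over (Spec (CommRingCat.of k))) (V : T.left.Opens) : opn T V ⟶ T :=
  Over.homMk V.ι rfl

lemma ideal_le_of_map {A B : CommRingCat.{u}} (e : A ⟶ B) [IsIso e] {I J : Ideal A}
    (h : I.map e.hom ≤ J.map e.hom) : I ≤ J := by
  have h1 : (I ⊔ J).map e.hom = J.map e.hom := by
    rw [Ideal.map_sup, sup_eq_right.mpr h]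
  exact sup_eq_right.mp (Divis.IdealComap.map_injective_of_isIso e h1)

include hF hΘ in
/-- **An ideal sheaf which locally kills the Cech `H¹` of `j^* F` is contained in `I_Θ O_T`.** -/
theorem le_comap {T : Over (Spec (CommRingCat.of k))} (j : T ⟶ J) (I : T.left.IdealSheafData)
    (h : ∀ t : T.left, ∃ V : T.left.affineOpens, t ∈ V.1 ∧ Cyc P (opn T V.1) (pb f (opnι T V.1 ≫ j) F) ∧
      (haveI : IsAffine V.1.toScheme := V.2
      (I.comap V.1.ι).ideal (tp V.1.toScheme)) ≤ annI P (opn T V.1) (pb f (opnι T V.1 ≫ j) F)) :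
    I ≤ (Scheme.IdealSheafData.vanishingIdeal Θ).comap j.left := by
  have key : ∀ t : T.left, ∃ V : T.left.affineOpens, t ∈ V.1 ∧
      I.ideal V ≤ ((Scheme.IdealSheafData.vanishingIdeal Θ).comap j.left).ideal V := by
    intro t
    obtain ⟨V, htV, hcyc, hI⟩ := h t
    obtain ⟨U, V', hU, htV', hV', -, e⟩ := Divis.IdealComap.exists_affine_le j.left t V.1 htV ⊤ trivial
    refine ⟨V', htV', ?_⟩
    haveI : IsAffine V.1.toScheme := V.2
    haveI : IsAffine V'.1.toScheme := V'.2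
    haveI : IsAffine U.1.toScheme := U.2
    haveI : IsAffine (opn T V.1).left := V.2
    haveI : IsAffine (opn T V'.1).left := V'.2
    haveI : IsAffine (opn J U.1).left := U.2
    let i : opn T V'.1 ⟶ opn T V.1 := Over.homMk (T.left.homOfLE hV') (by
      change T.left.homOfLE hV' ≫ V.1.ι ≫ T.hom = V'.1.ι ≫ T.hom
      rw [Scheme.homOfLE_ι_assoc])
    have hi : i ≫ (opnι T V.1 ≫ j) = opnι T V'.1 ≫ j := by
      ext : 1
      change T.left.homOfLE hV' ≫ V.1.ι ≫ j.left = V'.1.ι ≫ j.left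
      rw [Scheme.homOfLE_ι_assoc]
    let g : opn T V'.1 ⟶ opn J U.1 := Over.homMk (j.left.resLE U.1 V'.1 e) (by
      change j.left.resLE U.1 V'.1 e ≫ U.1.ι ≫ J.hom = V'.1.ι ≫ T.hom
      rw [Scheme.Hom.resLE_comp_ι_assoc, Over.w])
    have hg : g ≫ opnι J U.1 = opnι T V'.1 ≫ j := by
      ext : 1
      change j.left.resLE U.1 V'.1 e ≫ U.1.ι = V'.1.ι ≫ j.left
      rw [Scheme.Hom.resLE_comp_ι]
    obtain ⟨φ, -⟩ := exists_pbComp f i (opnι T V.1 ≫ j) _ hi F
    have hF' := isInvertible_pullback (PicF.XTmap f (opnι T V.1 ≫ j)) hF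
    have hcyc' : Cyc P (opn T V'.1) (pb f (opnι T V'.1 ≫ j) F) := (hcyc.pb P i hF').of_iso P φ
    have hI' : (I.comap V'.1.ι).ideal (tp V'.1.toScheme) ≤
        annI P (opn T V'.1) (pb f (opnι T V'.1 ≫ j) F) := by
      have h1 : (I.comap V'.1.ι).ideal (tp V'.1.toScheme) =
          ((I.comap V.1.ι).ideal (tp V.1.toScheme)).map (T.left.homOfLE hV').appTop.hom := by
        have h2 : I.comap V'.1.ι = (I.comap V.1.ι).comap (T.left.homOfLE hV') := by
          rw [← Scheme.IdealSheafData.comap_comp, Scheme.homOfLE_ι]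
        rw [h2, Divis.IdealComap.ideal_comap_top]
      rw [h1, ← annI_congr P φ]
      exact (Ideal.map_mono hI).trans (map_annI_le P i hF')
    haveI : IsOpenImmersion (opnι J U.1).left := inferInstanceAs (IsOpenImmersion U.1.ι)
    have h3 := ideal_le P hF hΘ (opnι T V'.1 ≫ j) (opnι J U.1) g hg hcyc' _ hI'
    have h4 : ((Scheme.IdealSheafData.vanishingIdeal Θ).comap (opnι T V'.1 ≫ j).left) =
        ((Scheme.IdealSheafData.vanishingIdeal Θ).comap j.left).comap V'.1.ι := by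
      rw [← Scheme.IdealSheafData.comap_comp]
      rfl
    rw [h4] at h3
    have h5 := Divis.IdealComap.ideal_comap_of_isOpenImmersion I V'.1.ι V' (tp V'.1.toScheme)
      (V'.1.ι_preimage_self.ge)
    have h6 := Divis.IdealComap.ideal_comap_of_isOpenImmersion
      ((Scheme.IdealSheafData.vanishingIdeal Θ).comap j.left) V'.1.ι V' (tp V'.1.toScheme)
      (V'.1.ι_preimage_self.ge)
    apply ideal_le_of_map (V'.1.ι.appLE V' ⊤ V'.1.ι_preimage_self.ge)
    rw [← h5, ← h6]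
    exact h3
  choose V htV hV using key
  refine Scheme.IdealSheafData.le_of_iSup_eq_top V ?_ hV
  exact top_le_iff.mp fun x _ => Opens.mem_iSup.mpr ⟨x, htV x⟩

end theta

end K533.ThetaComap
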