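import Groth.Agent.Jac.K914.Semi
import Groth.Agent.JacVar.K531.GoodHH
import Groth.Agent.JacVar.K533.ThetaComap

/-!
# Constant classes on `X_T`, the canonical class, and vanishing of `H¹` at points

* `cst f T c`: the pull-back of the class `c` on `X` to `X_T`; `pull_cst`.
* `om f`: the canonical class on `X`; `cst_om`: it gives the canonical class on every `X_K`.
* `isDeg_cst`: degrees of constant classes.
* `h1van_iff_hK`: the condition `H1van` at a point read off at any field-valued point.
-/

set_option autoImplicit false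
set_option backward.isDefEq.respectTransparency false
universe u
open CategoryTheory CategoryTheory.Limits AlgebraicGeometry Opposite TopologicalSpace

namespace K533.Cst

open Groth.Agent Groth.Agent.Grpsch Groth.Agent.Grpsch.PicGrp Groth.Agent.Fga.RigGrp Groth.Agent.Fga.JacSum
open Groth.Agent.Fga.JacAlg Groth.Agent.Picfga.ChiDef Groth.Agent.Fga.JacSurj Groth.Agent.Fdesc.LocGen
open Groth.Agent.Picfga.P1Def Groth.Agent.Picfga.LatH0 Groth.Agent.Picfga.PicGood
open K914.Curve K914.Cls K914.Points K914.HField K914.Semi K914.Fine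

section general

variable {k : Type u} [Field k] {X : Scheme.{u}} (f : X ⟶ Spec (CommRingCat.of k))

/-- The class on `X_T` pulled back from a class on `X`. -/
noncomputable def cst (T : Over (Spec (CommRingCat.of k))) : Pic X →* Pic (PicF.XT f T) :=
  pull (pullback.fst f T.hom)

theorem pull_cst {T T' : Over (Spec (CommRingCat.of k))} (g : T' ⟶ T) (c : Pic X) :
    pull (PicF.XTmap f g) (cst f T c) = cst f T' c := by
  rw [cst, ← pull_comp, XTmap_fst]
  rfl

/-- The structure morphism of a field-valued point. -/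
noncomputable abbrev toPt {K : Type u} [Field K] (t : Spec (CommRingCat.of K) ⟶ Spec (CommRingCat.of k)) :
    Over.mk t ⟶ Over.mk (𝟙 (Spec (CommRingCat.of k))) := Over.homMk t (Category.comp_id _)

end general

section curve

variable {k : Type u} [Field k] {X : Scheme.{u}} (f : X ⟶ Spec (CommRingCat.of k))
  [IsProper f] [Smooth f] [GeometricallyConnected f] [SmoothOfRelativeDimension 1 f]

/-- The canonical class. -/
noncomputable def om : Pic X := pull (K532.UnitBase.ui f) (omK f (𝟙 (Spec (CommRingCat.of k))))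

theorem cst_om {K : Type u} [Field K] (t : Spec (CommRingCat.of K) ⟶ Spec (CommRingCat.of k)) :
    cst f (Over.mk t) (om f) = omK f t := by
  rw [← pull_cst f (toPt t)]
  have h : cst f (Over.mk (𝟙 (Spec (CommRingCat.of k)))) (om f) = omK f (𝟙 (Spec (CommRingCat.of k))) :=
    (K532.UnitBase.uiPic f).symm_apply_apply (omK f (𝟙 (Spec (CommRingCat.of k))))
  rw [h, pull_omK]

omit [Smooth f] [GeometricallyConnected f] [SmoothOfRelativeDimension 1 f] in
theorem dK_cst {K : Type u} [Field K] (t : Spec (CommRingCat.of K) ⟶ Spec (CommRingCat.of k)) (c : Pic X) :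
    dK f t (cst f (Over.mk t) c) = dK f (𝟙 _) (cst f (Over.mk (𝟙 _)) c) := by
  rw [← pull_cst f (toPt t), dK_pull]

omit [Smooth f] [GeometricallyConnected f] [SmoothOfRelativeDimension 1 f] in
theorem isDeg_cst {d : ℤ} {c : Pic X} (h : dK f (𝟙 _) (cst f (Over.mk (𝟙 _)) c) = d)
    (T : Over (Spec (CommRingCat.of k))) : IsDeg f d (cst f T c) := by
  rw [isDeg_iff_dK]
  intro τ
  rw [pull_cst, dK_cst, h]

omit [GeometricallyConnected f] [SmoothOfRelativeDimension 1 f] [Smooth f] in
theorem isDeg_cst_of_point {d : ℤ} {c : Pic X} {K : Type u} [Field K]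
    {t : Spec (CommRingCat.of K) ⟶ Spec (CommRingCat.of k)}
    (h : dK f t (cst f (Over.mk t) c) = d) (T : Over (Spec (CommRingCat.of k))) : IsDeg f d (cst f T c) :=
  isDeg_cst f (by rw [← dK_cst f t, h]) T

theorem isDeg_om (T : Over (Spec (CommRingCat.of k))) :
    IsDeg f (-2 * chiK f (𝟙 (Spec (CommRingCat.of k))) 1) (cst f T (om f)) :=
  isDeg_cst f (by rw [cst_om, dK_omK]) T

/-- `H1van` over a field. -/
theorem h1van_iff_hK_field (P : P1Data f) {K : Type u} [Field K] (t : Spec (CommRingCat.of K) ⟶ Spec (CommRingCat.of k))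
    (M : (PicF.XT f (Over.mk t)).Modules) (hM : PicF.IsInvertible M) :
    H1van P (Over.mk t) M ↔ hK f t 1 (mk M hM) = 0 := by
  rw [K531.GoodHH.h1van_iff P t M hM]
  let _ := overK f t
  have h1 := K532.CurvePic.nontrivial_iff (isCurve f t) hM 1
  rw [← not_nontrivial_iff_subsingleton, h1]
  exact Nat.not_lt.trans Nat.le_zero

/-- `H1van` at a point, read off at a field-valued point. -/
theorem h1van_iff_hK (P : P1Data f) {T : Over (Spec (CommRingCat.of k))} {K : Type u} [Field K]
    {t : Spec (CommRingCat.of K) ⟶ Spec (CommRingCat.of k)} (g : Over.mk t ⟶ T) (p : Spec (CommRingCat.of K))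
    (M : (PicF.XT f T).Modules) (hM : PicF.IsInvertible M) :
    H1van P (ptOver T (g.left p)) (pb f (ptHom T (g.left p)) M) ↔
      hK f t 1 (pull (PicF.XTmap f g) (mk M hM)) = 0 := by
  rw [← ThetaComap.h1van_pt_iff P g M hM p]
  let s : Spec (CommRingCat.of ((Over.mk t).left.residueField p)) ⟶ Spec (CommRingCat.of k) :=
    (Over.mk t).left.fromSpecResidueField p ≫ (Over.mk t).hom
  let e : Over.mk s ⟶ Over.mk t := ptHom (Over.mk t) p
  have hM2 := isInvertible_pullback (PicF.XTmap f e) (isInvertible_pullback (PicF.XTmap f g) hM)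
  have h1 := h1van_iff_hK_field f P s _ hM2
  have h2 : mk _ hM2 = pull (PicF.XTmap f e) (pull (PicF.XTmap f g) (mk M hM)) := by
    rw [pull_mk, pull_mk]
  rw [h2, hK_pull f e 1] at h1
  exact h1

end curve

end K533.Cst
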