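import Groth.Agent.JacVar.K533.PtTwist
import Groth.Agent.JacVar.K533.CurveH1
import Groth.Agent.Dix.IdealModCartier

/-!
# Twisting an invertible module on a smooth proper curve down by general rational points

For `C` a smooth proper integral curve over a separably closed field and `L` invertible:
* `exists_drop`: if `h^0(L) ≠ 0` then every nonempty open contains a rational point `P` with
  `h^0(L ⊗ I_P) + 1 = h^0(L)` and `h^1(L ⊗ I_P) = h^1(L)`;
* `exists_peel`: if `h^0(L) = n + 1` there are rational points `P_1, …, P_n` with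
  `h^0(L ⊗ I_{P_1} ⊗ ⋯ ⊗ I_{P_n}) = 1`.
-/

set_option autoImplicit false
universe u
open CategoryTheory CategoryTheory.Limits AlgebraicGeometry Opposite TopologicalSpace

namespace K533.Drop

open Groth.Agent Groth.Agent.Fdesc.LocGen Groth.Agent.VarietyA.EulerLES K533.PtTwist

variable {k : Type u} [Field k] {X : Scheme.{u}} [X.Over (Spec (CommRingCat.of k))]

/-- A nonzero `H^0` gives a nonzero section. -/
theorem exists_section {L : X.Modules} (h : Module.finrank k (Coh.HH X L 0) ≠ 0) :
    ∃ s : Coh.structureModule X ⟶ L, s ≠ 0 := by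
  have hnt : Nontrivial (Coh.HH X L 0) := by
    by_contra hc
    rw [not_nontrivial_iff_subsingleton] at hc
    exact h Module.finrank_zero_of_subsingleton
  obtain ⟨a, ha⟩ := exists_ne (0 : Coh.HH X L 0)
  refine ⟨homOf (VarietyA.H0Equiv.hZeroEquiv L a : Γ(L, ⊤)), fun h0 => ha ?_⟩
  have h1 : sec (homOf (VarietyA.H0Equiv.hZeroEquiv L a : Γ(L, ⊤))) ⊤ = 0 := by
    rw [h0]
    rfl
  rw [sec_homOf, res_refl] at h1
  exact (VarietyA.H0Equiv.hZeroEquiv L).injective (h1.trans (map_zero _).symm)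

variable [IsProper (X ↘ (Spec (CommRingCat.of k)))] [Smooth (X ↘ (Spec (CommRingCat.of k)))]
  [IsIntegral X]

theorem isInvertible_idealMod (hdim : topologicalKrullDim X = 1) (P : Spec (CommRingCat.of k) ⟶ X)
    (hP : P ≫ (X ↘ (Spec (CommRingCat.of k))) = 𝟙 _) : PicF.IsInvertible (ClSub.idealMod P.ker) := by
  have : SmoothOfRelativeDimension 1 (X ↘ (Spec (CommRingCat.of k))) :=
    Picfga.CurveRelDim.smoothOfRelativeDimension_of_topologicalKrullDim_eq k X _ 1
      (by rw [hdim]; rfl)
  exact Dix.IdealModCartier.isInvertible_idealMod (Picfga.PtEval.isEff_ker hP).1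

theorem exists_drop [IsSepClosed k] {L : X.Modules} (hL : PicF.IsInvertible L)
    (h : Module.finrank k (Coh.HH X L 0) ≠ 0) (W : X.Opens) (hW : (W : Set X).Nonempty) :
    ∃ P : Spec (CommRingCat.of k) ⟶ X, P ≫ (X ↘ (Spec (CommRingCat.of k))) = 𝟙 _ ∧ pt P ∈ W ∧
      Module.finrank k (Coh.HH X (CohB1.tensorMod L (ClSub.idealMod P.ker)) 0) + 1 =
        Module.finrank k (Coh.HH X L 0) ∧
      Module.finrank k (Coh.HH X (CohB1.tensorMod L (ClSub.idealMod P.ker)) 1) =
        Module.finrank k (Coh.HH X L 1) := by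
  obtain ⟨s, hs⟩ := exists_section h
  have hG := Old.H24.SecondSection.genLocus_nonempty hL s hs
  have hGW : ((CohB1.genLocus L s ⊓ W : X.Opens) : Set X).Nonempty :=
    nonempty_preirreducible_inter (CohB1.genLocus L s).2 W.2 hG hW
  obtain ⟨x, hx⟩ := hGW
  obtain ⟨P, hP, hPW⟩ := Picfga.RatPts.exists_section_mem (X ↘ (Spec (CommRingCat.of k)))
    (CohB1.genLocus L s ⊓ W) x hx
  have hpt := hPW (IsLocalRing.closedPoint k)
  exact ⟨P, hP, hpt.2, finrank_of_mem_genLocus P hP hL s hpt.1⟩

theorem exists_peel [IsSepClosed k] (hdim : topologicalKrullDim X = 1) (n : ℕ) :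
    ∀ (L : X.Modules) (_ : PicF.IsInvertible L) (_ : Module.finrank k (Coh.HH X L 0) = n + 1),
    ∃ σ : Fin n → (Spec (CommRingCat.of k) ⟶ X),
      (∀ t, σ t ≫ (X ↘ (Spec (CommRingCat.of k))) = 𝟙 _) ∧
      Module.finrank k (Coh.HH X (CohB1.tensorMod L (FGA.tensorList (List.ofFn fun t : Fin n =>
        ClSub.idealMod (σ t).ker))) 0) = 1 := by
  induction n with
  | zero =>
    intro L hL h
    refine ⟨Fin.elim0, fun t => t.elim0, ?_⟩
    rw [List.ofFn_zero]
    change Module.finrank k (Coh.HH X (CohB1.tensorMod L (Coh.structureModule X)) 0) = 1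
    rw [(equivA k (Ega2.Tens.runit L) 0).finrank_eq, h]
  | succ n ih =>
    intro L hL h
    obtain ⟨P, hP, -, hd, -⟩ := exists_drop hL (by rw [h]; exact Nat.succ_ne_zero _) ⊤
      Set.univ_nonempty
    have hI := isInvertible_idealMod hdim P hP
    obtain ⟨σ, hσ, h1⟩ := ih _ (isInvertible_tensorMod hL hI) (by omega)
    refine ⟨Fin.cons P σ, fun t => ?_, ?_⟩
    · refine Fin.cases hP hσ t
    · have e : (List.ofFn fun t : Fin (n + 1) => ClSub.idealMod ((Fin.cons P σ :
          Fin (n + 1) → (Spec (CommRingCat.of k) ⟶ X)) t).ker) =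
          ClSub.idealMod P.ker :: List.ofFn (fun t : Fin n => ClSub.idealMod (σ t).ker) := by
        rw [List.ofFn_succ]
        rfl
      rw [e, ← h1]
      exact (equivA k (Ega2.Tens.assoc L (ClSub.idealMod P.ker) _).symm 0).finrank_eq

end K533.Drop
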