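import Groth.Agent.Hensel.JacPic
import Groth.Agent.Fga.PicTanBij
import Groth.Agent.AbDual.K732.AV
import Groth.Agent.AbDual.K732.Prim
import Groth.Agent.AbVar.K504.AnyField
import Groth.Agent.VarietyA.CurveFin
import Groth.Prelude.Def_AgPol

/-!
# Tangent vectors of the dual abelian variety

`A` an abelian variety over a field with dual `At`, `l : A ⟶ At` and `fd : At ⟶ A` homomorphisms with
`l ≫ fd = inv`.  `eq_one_of_tangent`: a tangent vector of `At` at the origin killed by `fd` is trivial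
(because `dim H¹(A, O) = dim A`).
-/

set_option autoImplicit false
set_option backward.isDefEq.respectTransparency false
set_option linter.unusedSectionVars false
universe u
open CategoryTheory CategoryTheory.Limits AlgebraicGeometry Opposite TopologicalSpace MonObj MonoidalCategory
  CartesianMonoidalCategory

namespace K533.DualTan

open Groth.Agent Groth.Agent.Grpsch Groth.Agent.Grpsch.PicGrp Groth.Agent.Fga.RigGrp
open Groth.Agent.Hensel.JacTan Groth.Agent.Hensel.JacDer Groth.Agent.Hensel.JacDim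
open K732.PicZero K732.Dual K732.Prim

section lin

variable {k D H : Type u} [Field k] [AddCommGroup D] [Module k D] [AddCommGroup H] [Module k H]

/-- Maps `D ^ r → H ^ r`, natural with respect to matrices, come from a linear map. -/
theorem exists_linear (Θ : ∀ r : ℕ, (Fin r → D) → (Fin r → H))
    (hn : ∀ (r : ℕ) (l : (Fin r → k) →ₗ[k] (Fin 1 → k)) (d : Fin r → D),
      Θ 1 (act l d) = act l (Θ r d)) :
    ∃ L : D →ₗ[k] H, ∀ x, Θ 1 (fun _ => x) = fun _ => L x := by
  have hp : ∀ (i : Fin 2) (M : Type u) [AddCommGroup M] [Module k M] (d : Fin 2 → M),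
      act (LinearMap.pi fun _ : Fin 1 => LinearMap.proj (R := k) (φ := fun _ : Fin 2 => k) i) d =
        fun _ => d i := by
    intro i M _ _ d
    funext j
    simp only [act, LinearMap.pi_apply, LinearMap.proj_apply]
    rw [Finset.sum_eq_single i]
    · simp
    · intro b _ hb
      rw [Pi.single_eq_of_ne (Ne.symm hb), zero_smul]
    · intro h
      exact absurd (Finset.mem_univ _) h
  have hs : ∀ (M : Type u) [AddCommGroup M] [Module k M] (d : Fin 2 → M),
      act (LinearMap.pi fun _ : Fin 1 => LinearMap.proj (R := k) (φ := fun _ : Fin 2 => k) 0 +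
        LinearMap.proj (R := k) (φ := fun _ : Fin 2 => k) 1) d = fun _ => d 0 + d 1 := by
    intro M _ _ d
    funext j
    simp [act, Fin.sum_univ_two]
  have hc : ∀ (c : k) (M : Type u) [AddCommGroup M] [Module k M] (d : Fin 1 → M),
      act (c • LinearMap.id : (Fin 1 → k) →ₗ[k] (Fin 1 → k)) d = fun _ => c • d 0 := by
    intro c M _ _ d
    funext j
    obtain rfl : j = 0 := Subsingleton.elim _ _
    simp [act]
  let θ : D → H := fun x => Θ 1 (fun _ => x) 0
  have hθ : ∀ x, Θ 1 (fun _ => x) = fun _ => θ x := by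
    intro x
    funext j
    obtain rfl : j = 0 := Subsingleton.elim _ _
    rfl
  have hΘ2 : ∀ d : Fin 2 → D, Θ 2 d = fun i => θ (d i) := by
    intro d
    funext i
    have h1 := hn 2 (LinearMap.pi fun _ : Fin 1 => LinearMap.proj (R := k) (φ := fun _ : Fin 2 => k) i) d
    rw [hp, hp, hθ] at h1
    exact (congrFun h1 0).symm
  have hadd : ∀ x y, θ (x + y) = θ x + θ y := by
    intro x y
    have h1 := hn 2 (LinearMap.pi fun _ : Fin 1 =>
      LinearMap.proj (R := k) (φ := fun _ : Fin 2 => k) 0 +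
        LinearMap.proj (R := k) (φ := fun _ : Fin 2 => k) 1) ![x, y]
    rw [hs D, hs H, hθ, hΘ2] at h1
    exact congrFun h1 0
  have hsmul : ∀ (c : k) x, θ (c • x) = c • θ x := by
    intro c x
    have h1 := hn 1 (c • LinearMap.id) (fun _ => x)
    rw [hc c D, hc c H, hθ, hθ] at h1
    exact congrFun h1 0
  exact ⟨{ toFun := θ, map_add' := hadd, map_smul' := hsmul }, hθ⟩

end lin

variable {k : Type u} [Field k] {A At : Over (Spec (CommRingCat.of k))} [GrpObj A] [GrpObj At]
  [IsProper A.hom] [GeometricallyIntegral A.hom]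

/-- Tangent data at a rational point of a smooth scheme of relative dimension `g`. -/
theorem exists_tangent {g : ℕ} [hsm : SmoothOfRelativeDimension g A.hom] (x : pt k ⟶ A) :
    ∃ t : TangentData x, Module.finrank k t.D = g := by
  obtain ⟨U, hU, V, hV, hyV, e, hst⟩ :=
    hsm.exists_isStandardSmoothOfRelativeDimension (x.left (IsLocalRing.closedPoint k))
  obtain rfl : U = ⊤ := by
    ext z
    have : z = A.hom (x.left (IsLocalRing.closedPoint k)) := Subsingleton.elim _ _
    subst this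
    exact ⟨fun _ => trivial, fun _ => e hyV⟩
  refine exists_tangentData g V hV e hst x fun y => ?_
  have hy : y = IsLocalRing.closedPoint k := Subsingleton.elim (α := PrimeSpectrum k) y (IsLocalRing.closedPoint k)
  rw [hy]
  exact hyV

/-- Facts about abelian varieties over a field. -/
theorem facts (A : Over (Spec (CommRingCat.of k))) [hG : GrpObj A] [hp : IsProper A.hom]
    [hg : GeometricallyIntegral A.hom] : ∃ g : ℕ, SmoothOfRelativeDimension g A.hom ∧
      (letI : A.left.Over (Spec (CommRingCat.of k)) := ⟨A.hom⟩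
       Module.finrank k (Coh.HH A.left (Coh.structureModule A.left) 1) = g) := by
  have hsm0 : Smooth A.hom := @K504.AnyField.smooth_str k _ A.left ⟨A.hom⟩ hG hp hg
  have hint : IsIntegral A.left := @K504.AnyField.isIntegral k _ A.left ⟨A.hom⟩ hG hp hg
  obtain ⟨g, hsm⟩ := K504.Hodge.exists_relDim k A.left A.hom
  have hgdim : topologicalKrullDim A.left = g := K504.Hodge.topologicalKrullDim_eq A.hom g
  have hO := @K504.AnyField.finrank_O k _ A.left ⟨A.hom⟩ hG hp hg g hgdim 1
  rw [Nat.choose_one_right] at hO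
  exact ⟨g, hsm, hO⟩

variable {φ : AgPol.DualMap A At} (hD : AbDual.IsDualAV Scheme.fppfPrecoverage A At φ)
  {ζ : Pic (PicF.XT A.hom At)} (h1 : ζ ∈ pz A.hom At) (h2 : ζ ∈ rg A At) (h3 : cm φ ζ = 𝟙 At)
  {l : A ⟶ At} (hl1 : (1 : 𝟙_ (Over (Spec (CommRingCat.of k))) ⟶ A) ≫ l = 1)
  {fd : At ⟶ A} (h : l ≫ fd = (𝟙 A)⁻¹)

include hD h1 h3 in
theorem point_eq {T : Over (Spec (CommRingCat.of k))} {u v : T ⟶ At}
    (huv : pull (PicF.XTmap A.hom u) ζ = pull (PicF.XTmap A.hom v) ζ) : u = v := by
  have e : ∀ x : T ⟶ At, x = cm φ (pull (PicF.XTmap A.hom x) ζ) := fun x => by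
    rw [cm_pull hD _ h1, h3, Category.comp_id]
  rw [e u, e v, huv]

include hD h1 h2 h3 in
theorem pull_one (T : Over (Spec (CommRingCat.of k))) : pull (PicF.XTmap A.hom (1 : T ⟶ At)) ζ = 1 := by
  refine cm_inj hD (K732.CubeSec.bijective_XTproj A.hom) (pull_XTmap_mem _ h1) (one_mem _) (pull_mem _ h2)
    (one_mem _) ?_
  rw [cm_pull hD _ h1, h3, Category.comp_id, cm_one hD]

include hD h1 h2 h3 hl1 h in
/-- A tangent vector of the dual killed by `fd` is trivial. -/
theorem eq_one_of_tangent (v : T k 1 ⟶ At) (hv : i k 1 ≫ v = 1) (hfd : v ≫ fd = 1) : v = 1 := by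
  let _ : A.left.Over (Spec (CommRingCat.of k)) := ⟨A.hom⟩
  have hp : IsProper (A.left ↘ Spec (CommRingCat.of k)) := inferInstanceAs (IsProper A.hom)
  have hg : GeometricallyIntegral (A.left ↘ Spec (CommRingCat.of k)) := inferInstanceAs (GeometricallyIntegral A.hom)
  obtain ⟨E, hE, hn⟩ := Fga.PicTanBij.exists_E k A.left
  obtain ⟨g, hsm, hO⟩ := facts A
  obtain ⟨t, ht⟩ := exists_tangent (g := g) (1 : pt k ⟶ A)
  have hfin : Module.Finite k (Coh.HH A.left (Coh.structureModule A.left) 1) :=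
    VarietyA.CurveFin.finite_HH_structure k A.left 1
  have hmem : ∀ (r : ℕ) (d : Fin r → t.D),
      pull (PicF.XTmap A.hom (i k r)) (pull (PicF.XTmap A.hom (t.Ψ r d ≫ l)) ζ) = 1 := by
    intro r d
    rw [← pull_comp, ← XTmap_comp, ← Category.assoc, t.i_Ψ]
    have e : (1 : pt k ⟶ A) ≫ l = 1 := hl1
    rw [e, pull_one hD h1 h2 h3]
  let Θ : ∀ r : ℕ, (Fin r → t.D) → (Fin r → Coh.HH A.left (Coh.structureModule A.left) 1) :=
    fun r d => E r ⟨_, hmem r d⟩
  obtain ⟨L, hL⟩ := exists_linear (k := k) Θ (fun r m d => hn r 1 m _ _ (by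
    change pull (PicF.XTmap A.hom (t.Ψ 1 (act m d) ≫ l)) ζ = _
    rw [t.nat, Category.assoc, XTmap_comp, pull_comp]
    rfl))
  have hinj : Function.Injective L := by
    intro x y hxy
    have e1 : Θ 1 (fun _ => x) = Θ 1 (fun _ => y) := by rw [hL, hL, hxy]
    have e2 := congrArg Subtype.val ((hE 1).1 e1)
    have e3 := point_eq hD h1 h3 e2
    have e4 : t.Ψ 1 (fun _ => x) ≫ l ≫ fd = t.Ψ 1 (fun _ => y) ≫ l ≫ fd := by
      rw [← Category.assoc, e3, Category.assoc]
    rw [h, GrpObj.comp_inv, GrpObj.comp_inv, inv_inj, Category.comp_id, Category.comp_id] at e4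
    exact congrFun (t.inj 1 e4) 0
  have hfD : Module.Finite k t.D := Module.Finite.of_injective L hinj
  have hsurj : Function.Surjective L :=
    (LinearMap.injective_iff_surjective_of_finrank_eq_finrank (by rw [ht, hO])).1 hinj
  have hvm : pull (PicF.XTmap A.hom (i k 1)) (pull (PicF.XTmap A.hom v) ζ) = 1 := by
    rw [← pull_comp, ← XTmap_comp, hv, pull_one hD h1 h2 h3]
  obtain ⟨d, hd⟩ := hsurj (E 1 ⟨_, hvm⟩ 0)
  have e1 : Θ 1 (fun _ => d) = E 1 ⟨_, hvm⟩ := by
    rw [hL]
    funext j
    obtain rfl : j = 0 := Subsingleton.elim _ _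
    exact hd
  have e2 := point_eq hD h1 h3 (congrArg Subtype.val ((hE 1).1 e1))
  have e3 : t.Ψ 1 (fun _ => d) = 1 := by
    rw [← e2, Category.assoc, h, GrpObj.comp_inv, Category.comp_id] at hfd
    exact inv_eq_one.1 hfd
  rw [← e2, e3]
  have e4 : (1 : T k 1 ⟶ A) = toUnit _ ≫ (1 : 𝟙_ (Over (Spec (CommRingCat.of k))) ⟶ A) :=
    (MonObj.comp_one _).symm
  rw [e4, Category.assoc, hl1, MonObj.comp_one]

end K533.DualTan
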