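import Groth.Agent.JacVar.K533.ThetaDual
import Groth.Agent.JacVar.K533.DualTan
import Groth.Agent.AbVar.K512.PhiSurj
import Groth.Agent.AbVar.K506.DivAlg
import Groth.Agent.AbVar.K521.Lam
import Groth.Agent.AbDual.K732.BC

/-!
# Geometric points of the dual abelian variety

`A` an abelian variety over a field `k` with dual `At`, `θ` a class on `A` with homomorphism `l = λ_θ : A ⟶ At`
which is injective on geometric points.  Then every geometric point of `At` comes from `A`.
-/

set_option autoImplicit false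
set_option backward.isDefEq.respectTransparency false
set_option linter.unusedSectionVars false
universe u
open CategoryTheory CategoryTheory.Limits AlgebraicGeometry Opposite TopologicalSpace MonObj MonoidalCategory
  CartesianMonoidalCategory

namespace K533.DualPts

open Groth.Agent Groth.Agent.Grpsch Groth.Agent.Grpsch.PicGrp Groth.Agent.Fga.RigGrp Groth.Agent.Grpsch.Cube
open K732.PicZero K732.Dual K732.Prim K732.BC K521.Lam K528.MumZero

variable {k : Type u} [Field k] {A At : Over (Spec (CommRingCat.of k))} [GrpObj A] [GrpObj At]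
  [IsProper A.hom] [GeometricallyIntegral A.hom]

variable {φ : AgPol.DualMap A At} (hD : AbDual.IsDualAV Scheme.fppfPrecoverage A At φ)
  {ζ : Pic (PicF.XT A.hom At)} (h1 : ζ ∈ pz A.hom At) (h2 : ζ ∈ rg A At) (h3 : cm φ ζ = 𝟙 At)
  (θ : Pic A.left) {l : A ⟶ At} (hl : pull (PicF.XTmap A.hom l) ζ = mumCl A θ)

section gen

omit [IsProper A.hom] [GeometricallyIntegral A.hom] in
/-- Surjectivity of `φ_c` onto classes algebraically equivalent to zero. -/
theorem exists_eq_of_az {Ω : Type u} [Field Ω] [IsAlgClosed Ω] (B : Over (Spec (CommRingCat.of Ω)))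
    [hG : GrpObj B] [hp : IsProper B.hom] [hg : GeometricallyIntegral B.hom] (c m : Pic B.left) (hm : m ∈ az B.hom)
    (hc : ∀ x, pl (K512.Phi.tr x) c = c → x = 1) : ∃ x, pl (K512.Phi.tr x) c = c * m := by
  have hsm : Smooth B.hom := @K504.AnyField.smooth_str Ω _ B.left ⟨B.hom⟩ hG hp hg
  have hint : IsIntegral B.left := GeometricallyIntegral.isIntegral_of_subsingleton B.hom
  refine K512.PhiSurj.exists_eq c m ((Set.finite_singleton (1 : 𝟙_ (Over (Spec (CommRingCat.of Ω))) ⟶ B)).subset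
    fun x hx => hc x hx) ?_
  exact K506.DivAlg.inv_of_mem_alg0 B (c := m) hm

/-- A point is determined by the constant morphism. -/
theorem eq_one_of_toUnit {S : Scheme.{u}} {B : Over S} [GrpObj B] {x : 𝟙_ (Over S) ⟶ B}
    (h : toUnit B ≫ x = 1) : x = 1 := by
  have e3 : (1 : 𝟙_ (Over S) ⟶ B) ≫ toUnit B ≫ x = (1 : 𝟙_ (Over S) ⟶ B) ≫ 1 := by rw [h]
  rw [← Category.assoc, toUnit_unique ((1 : 𝟙_ (Over S) ⟶ B) ≫ toUnit B) (𝟙 _), Category.id_comp,
    MonObj.comp_one] at e3
  exact e3

end gen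

section pts

variable {Ω : Type u} [Field Ω] [IsAlgClosed Ω] (t : Spec (CommRingCat.of Ω) ⟶ Spec (CommRingCat.of k))

/-- The first projection of the geometric fibre. -/
noncomputable abbrev p₁ (A : Over (Spec (CommRingCat.of k))) : dn t (Red.bc t A) ⟶ A :=
  Over.homMk (pullback.fst A.hom t) (by
    change pullback.fst A.hom t ≫ A.hom = pullback.snd A.hom t ≫ t
    exact pullback.condition)

/-- The second projection of the geometric fibre. -/
noncomputable abbrev p₂ (A : Over (Spec (CommRingCat.of k))) : dn t (Red.bc t A) ⟶ Over.mk t :=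
  Over.homMk (pullback.snd A.hom t) rfl

theorem up_p₁ : up (p₁ t A) = 𝟙 (Red.bc t A) := by
  apply hom_ext_bc
  rw [up_left_fst, Over.id_left, Category.id_comp]
  rfl

theorem lift_p (A : Over (Spec (CommRingCat.of k))) :
    (lift (p₁ t A) (p₂ t A)).left = 𝟙 (pullback A.hom t) := by
  apply pullback.hom_ext
  · exact (congrArg CommaMorphism.left (lift_fst (p₁ t A) (p₂ t A))).trans (Category.id_comp _).symm
  · exact (congrArg CommaMorphism.left (lift_snd (p₁ t A) (p₂ t A))).trans (Category.id_comp _).symm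

theorem ev_p {T : Over (Spec (CommRingCat.of k))} (y : Over.mk t ⟶ T) (c : Pic (PicF.XT A.hom T)) :
    ev (p₁ t A) (p₂ t A ≫ y) c = pull (PicF.XTmap A.hom y) c := by
  rw [← ev_XTmap, ev_def]
  exact (congrArg (fun f => pull f _) (lift_p t A)).trans (pull_id _)

/-- Rational points of the geometric fibre. -/
theorem exists_pt (x : 𝟙_ (Over (Spec (CommRingCat.of Ω))) ⟶ Red.bc t A) :
    ∃ a : Over.mk t ⟶ A, toUnit (Red.bc t A) ≫ x = up (p₂ t A ≫ a) := by
  have hw : x.left ≫ pullback.snd A.hom t = 𝟙 _ := Over.w x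
  refine ⟨Over.homMk (x.left ≫ pullback.fst A.hom t) ?_, ?_⟩
  · change (x.left ≫ pullback.fst A.hom t) ≫ A.hom = t
    rw [Category.assoc, pullback.condition, ← Category.assoc, hw]
    exact Category.id_comp t
  · apply hom_ext_bc
    rw [up_left_fst, Over.comp_left, Over.comp_left, Category.assoc]
    rfl

/-- The class on the geometric fibre. -/
noncomputable def thO : Pic (Red.bc t A).left := pull (pullback.fst A.hom t) θ

theorem pl_tr (a : Over.mk t ⟶ A) (x : 𝟙_ (Over (Spec (CommRingCat.of Ω))) ⟶ Red.bc t A)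
    (hx : toUnit (Red.bc t A) ≫ x = up (p₂ t A ≫ a)) :
    pl (K512.Phi.tr x) (thO θ t) = pl (p₁ t A * (p₂ t A ≫ a)) θ := by
  have e : K512.Phi.tr x = up (p₁ t A * (p₂ t A ≫ a)) := by
    rw [up_mul, up_p₁, ← hx]
  rw [e]
  refine (pull_comp (up (p₁ t A * (p₂ t A ≫ a))).left (pullback.fst A.hom t) θ).symm.trans ?_
  exact congrArg (fun f => pull f θ) (up_left_fst _)

include hl in
theorem ev_l (a : Over.mk t ⟶ A) (x : 𝟙_ (Over (Spec (CommRingCat.of Ω))) ⟶ Red.bc t A)
    (hx : toUnit (Red.bc t A) ≫ x = up (p₂ t A ≫ a)) :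
    pull (PicF.XTmap A.hom (a ≫ l)) ζ =
      pl (K512.Phi.tr x) (thO θ t) * (thO θ t)⁻¹ := by
  have e1 := ev_p t (A := A) (a ≫ l) ζ
  rw [← Category.assoc, ← ev_XTmap, hl, ev_def, pull_lift_mumCl] at e1
  have e2 : pull (p₂ t A ≫ a).left θ = 1 := by
    rw [Over.comp_left, pull_comp, pic_spec_local Ω (pull a.left θ), map_one]
  rw [e2, inv_one, _root_.mul_one] at e1
  rw [← e1, pl_tr θ t a x hx]
  rfl

include hD h1 h2 h3 hl

set_option synthInstance.maxHeartbeats 400000 in
set_option maxHeartbeats 1000000 in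
theorem eq_one_of_tr (hinj : ∀ a : Over.mk t ⟶ A, a ≫ l = 1 → a = 1)
    (x : 𝟙_ (Over (Spec (CommRingCat.of Ω))) ⟶ Red.bc t A) (hx : pl (K512.Phi.tr x) (thO θ t) = thO θ t) :
    x = 1 := by
  obtain ⟨a, ha⟩ := exists_pt t x
  have e1 : pull (PicF.XTmap A.hom (a ≫ l)) ζ = 1 := by
    refine (ev_l θ hl t a x ha).trans ?_
    exact (congrArg (fun z => z * (thO θ t)⁻¹) hx).trans (mul_inv_cancel _)
  have e2 := hinj a (DualTan.point_eq hD h1 h3 (e1.trans (DualTan.pull_one hD h1 h2 h3 _).symm))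
  rw [e2, MonObj.comp_one, up_one] at ha
  exact eq_one_of_toUnit ha

set_option synthInstance.maxHeartbeats 400000 in
set_option maxHeartbeats 1000000 in
/-- **Geometric points of the dual.** -/
theorem exists_point (hinj : ∀ a : Over.mk t ⟶ A, a ≫ l = 1 → a = 1) (y : Over.mk t ⟶ At) :
    ∃ a : Over.mk t ⟶ A, a ≫ l = y := by
  have hp : IsProper (Red.bc t A).hom := inferInstanceAs (IsProper (pullback.snd A.hom t))
  have hg : GeometricallyIntegral (Red.bc t A).hom :=
    inferInstanceAs (GeometricallyIntegral (pullback.snd A.hom t))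
  have hm : (pull (PicF.XTmap A.hom y) ζ : Pic (Red.bc t A).left) ∈ az (Red.bc t A).hom :=
    pull_mem_of_mem h1 y.left (PicF.XTmap A.hom y) (Red.bc t A).hom (XTmap_XTproj A.hom y)
  obtain ⟨x, hx⟩ := exists_eq_of_az (Red.bc t A) (thO θ t) (pull (PicF.XTmap A.hom y) ζ) hm
    (eq_one_of_tr hD h1 h2 h3 θ hl t hinj)
  obtain ⟨a, ha⟩ := exists_pt t x
  refine ⟨a, DualTan.point_eq hD h1 h3 ?_⟩
  refine (ev_l θ hl t a x ha).trans ?_
  exact (congrArg (fun z => z * (thO θ t)⁻¹) hx).trans (mul_inv_cancel_comm _ _)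

end pts

end K533.DualPts
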