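import Groth.Agent.Picfga.P1AlgNak
import Mathlib.RingTheory.Ideal.Quotient.Operations

/-!
# Annihilators of modules that become cyclic after base change

`exists_mul_mem_map_annihilator`: `M` finite over `A`, `B ⊗ M` generated by one element over the `A`-algebra `B`,
`b ∈ B` killing `B ⊗ M`, `q` a prime of `B`: some `h ∈ A` outside `q` has `h² b ∈ Ann(M) B`.
-/

set_option autoImplicit false
universe u

open TensorProduct

namespace K533.ThetaAlg

open Groth.Agent.Picfga.P1Alg

variable {A B M : Type u} [CommRing A] [CommRing B] [Algebra A B] [AddCommGroup M] [Module A M]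

/-- If `h M ⊆ A m` and `b` kills `B ⊗ M`, then `h² b ∈ Ann(M) B`. -/
theorem mem_map_of_smul (m : M) (h : A) (hm : ∀ x : M, ∃ a : A, h • x = a • m) (b : B)
    (hb : b • ((1 : B) ⊗ₜ[A] m) = 0) :
    algebraMap A B (h * h) * b ∈ (Module.annihilator A M).map (algebraMap A B) := by
  let θ : A →ₗ[A] M := LinearMap.toSpanSingleton A M m
  let 𝔞 : Ideal A := LinearMap.ker θ
  have hmr : ∀ x : M, h • x ∈ LinearMap.range θ := fun x => by
    obtain ⟨a, ha⟩ := hm x
    exact ⟨a, ha.symm⟩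
  let hmap : M →ₗ[A] LinearMap.range θ := (h • LinearMap.id : M →ₗ[A] M).codRestrict _ hmr
  let u : M →ₗ[A] (A ⧸ 𝔞) := θ.quotKerEquivRange.symm.toLinearMap ∘ₗ hmap
  have hu : u m = Ideal.Quotient.mk 𝔞 h := by
    change θ.quotKerEquivRange.symm (hmap m) = _
    rw [LinearEquiv.symm_apply_eq]
    exact Subtype.ext rfl
  let 𝔟 : Ideal B := 𝔞.map (algebraMap A B)
  let v : (A ⧸ 𝔞) →ₗ[A] (B ⧸ 𝔟) :=
    Submodule.liftQ 𝔞 ((Ideal.Quotient.mkₐ A 𝔟).toLinearMap ∘ₗ Algebra.linearMap A B) (by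
      intro a ha
      rw [LinearMap.mem_ker]
      exact Ideal.Quotient.eq_zero_iff_mem.mpr (Ideal.mem_map_of_mem _ ha))
  have hv : v (Ideal.Quotient.mk 𝔞 h) = Ideal.Quotient.mk 𝔟 (algebraMap A B h) := rfl
  let w : B ⊗[A] M →ₗ[B] (B ⧸ 𝔟) := LinearMap.liftBaseChange B (v ∘ₗ u)
  have hw : w (b • ((1 : B) ⊗ₜ[A] m)) = b • Ideal.Quotient.mk 𝔟 (algebraMap A B h) := by
    rw [map_smul, LinearMap.liftBaseChange_tmul, LinearMap.comp_apply, hu, hv, one_smul]
  rw [hb, map_zero] at hw
  have h1 : b * algebraMap A B h ∈ 𝔟 := by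
    rw [← Ideal.Quotient.eq_zero_iff_mem, map_mul]
    exact hw.symm
  have h2 : algebraMap A B (h * h) * b = algebraMap A B h * (b * algebraMap A B h) := by
    rw [map_mul]; ring
  rw [h2]
  have h3 : ∀ y ∈ 𝔟, algebraMap A B h * y ∈ (Module.annihilator A M).map (algebraMap A B) := by
    intro y hy
    refine Submodule.span_induction ?_ ?_ ?_ ?_ hy
    · rintro _ ⟨a, ha, rfl⟩
      rw [← map_mul]
      refine Ideal.mem_map_of_mem _ (Module.mem_annihilator.mpr fun x => ?_)
      obtain ⟨a', ha'⟩ := hm x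
      have ha0 : a • m = 0 := ha
      rw [mul_comm, mul_smul, ha', smul_comm, ha0, smul_zero]
    · rw [mul_zero]; exact zero_mem _
    · intro x y _ _ hx hy
      rw [mul_add]; exact add_mem hx hy
    · intro a x _ hx
      rw [smul_eq_mul, mul_left_comm]
      exact Ideal.mul_mem_left _ _ hx
  exact h3 _ h1

/-- A vector space over a field `κ` generated by one element after a field extension is generated by a pure tensor. -/
theorem exists_span_of_cyclic [Module.Finite A M] (K : Type u) [Field K] [Algebra A K] [Algebra B K]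
    [IsScalarTower A B K]
    (hcyc : ∃ m₀ : B ⊗[A] M, ∀ x, ∃ c : B, x = c • m₀) :
    ∃ m : M, ∀ x : K ⊗[A] M, ∃ c : K, x = c • ((1 : K) ⊗ₜ[A] m) := by
  obtain ⟨m₀, hm₀⟩ := hcyc
  let e := AlgebraTensorModule.cancelBaseChange A B K K M
  have h1 : ∀ x : K ⊗[A] M, ∃ c : K, x = c • e (1 ⊗ₜ m₀) := by
    intro x
    obtain ⟨y, rfl⟩ := e.surjective x
    induction y using TensorProduct.induction_on with
    | zero => exact ⟨0, by simp⟩
    | tmul a z =>
      obtain ⟨c, rfl⟩ := hm₀ z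
      refine ⟨c • a, ?_⟩
      rw [← TensorProduct.smul_tmul, ← map_smul, TensorProduct.smul_tmul', smul_eq_mul, mul_one]
    | add y z hy hz =>
      obtain ⟨c, hc⟩ := hy
      obtain ⟨d, hd⟩ := hz
      exact ⟨c + d, by rw [map_add, hc, hd, add_smul]⟩
  by_cases h0 : ∀ m : M, (1 : K) ⊗ₜ[A] m = 0
  · refine ⟨0, fun x => ⟨0, ?_⟩⟩
    rw [zero_smul]
    induction x using TensorProduct.induction_on with
    | zero => rfl
    | tmul a z =>
      have : a ⊗ₜ[A] z = a • ((1 : K) ⊗ₜ[A] z) := by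
        rw [TensorProduct.smul_tmul', smul_eq_mul, mul_one]
      rw [this, h0, smul_zero]
    | add y z hy hz => rw [hy, hz, add_zero]
  · push Not at h0
    obtain ⟨m, hm⟩ := h0
    refine ⟨m, fun x => ?_⟩
    obtain ⟨c, hc⟩ := h1 (1 ⊗ₜ m)
    obtain ⟨d, hd⟩ := h1 x
    have hc0 : c ≠ 0 := by
      rintro rfl
      rw [zero_smul] at hc
      exact hm hc
    refine ⟨d * c⁻¹, ?_⟩
    rw [hc, smul_smul, mul_assoc, inv_mul_cancel₀ hc0, mul_one]
    exact hd

/-- The version with a field-valued point of `Spec B`. -/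
theorem exists_mul_mem_map_annihilator [Module.Finite A M] (K : Type u) [Field K] [Algebra A K]
    [Algebra B K] [IsScalarTower A B K]
    (hcyc : ∃ m₀ : B ⊗[A] M, ∀ x, ∃ c : B, x = c • m₀)
    (b : B) (hb : ∀ x : B ⊗[A] M, b • x = 0) :
    ∃ h : A, algebraMap A K h ≠ 0 ∧
      algebraMap A B (h * h) * b ∈ (Module.annihilator A M).map (algebraMap A B) := by
  obtain ⟨m, hm⟩ := exists_span_of_cyclic (A := A) (B := B) (M := M) K hcyc
  let Q := M ⧸ (Submodule.span A {m})
  have hQ : Subsingleton (K ⊗[A] Q) := by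
    have h0 : ∀ y : K ⊗[A] Q, y = 0 := by
      intro y
      have hs : Function.Surjective ((Submodule.mkQ (Submodule.span A {m})).baseChange K) :=
        LinearMap.lTensor_surjective K (Submodule.mkQ_surjective _)
      obtain ⟨x, rfl⟩ := hs y
      obtain ⟨c, rfl⟩ := hm x
      rw [map_smul, LinearMap.baseChange_tmul]
      have : (Submodule.mkQ (Submodule.span A {m})) m = 0 := by
        rw [Submodule.mkQ_apply, Submodule.Quotient.mk_eq_zero]
        exact Submodule.mem_span_singleton_self m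
      rw [this, tmul_zero, smul_zero]
    exact ⟨fun a b => by rw [h0 a, h0 b]⟩
  obtain ⟨h, hK, hh⟩ := exists_smul_eq_zero K Q hQ
  refine ⟨h, hK, mem_map_of_smul m h ?_ b (hb _)⟩
  intro x
  have h1 := hh (Submodule.Quotient.mk x)
  rw [← Submodule.Quotient.mk_smul, Submodule.Quotient.mk_eq_zero,
    Submodule.mem_span_singleton] at h1
  obtain ⟨a, ha⟩ := h1
  exact ⟨a, ha.symm⟩

end K533.ThetaAlg
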