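import Groth.Agent.Picfga.PtStep
import Groth.Agent.Picfga.SecGraph
import Groth.Agent.Grpsch.CubeLift

/-!
# The Cech cokernel of `F = E(-Γ)` for a section `Γ` of `X_T ⟶ T`

Let `T` be affine, `γ` a section of `X_T ⟶ T` whose kernel is the zero ideal of a section `s` of the invertible
module `M₁`, `F ⊗ M₁ ≅ E` with vanishing Cech `H¹(E)`. If `e₀` generates `γ^* E` and `γ^* e = σ e₀` for
`e ∈ H⁰(E)`, then `σ` kills the Cech `H¹(F)`; moreover the Cech `H¹(F)` is generated by one element.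
-/

set_option autoImplicit false
set_option backward.isDefEq.respectTransparency false
universe u

open CategoryTheory CategoryTheory.Limits AlgebraicGeometry Opposite TopologicalSpace
open Groth.Agent Groth.Agent.Fdesc.LocGen Groth.Agent.Picfga.P1Def Groth.Agent.Picfga.SecBC
  Groth.Agent.Picfga.LatOf Groth.Agent.Picfga.LatH0 Groth.Agent.Picfga.ZeroDef
  Groth.Agent.Picfga.PtEval Groth.Agent.Picfga.PtStep

namespace K533.ThetaAnn

variable {k : Type u} [Field k] {X : Scheme.{u}} {f : X ⟶ Spec (CommRingCat.of k)}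
  {T : Over (Spec (CommRingCat.of k))} (γ : T.left ⟶ PicF.XT f T)

/-- Pull back sections over `V × T` along `γ`. -/
noncomputable def pl (L : (PicF.XT f T).Modules) (V : X.Opens) (b : Sec f T L V) :
    Γ((Scheme.Modules.pullback γ).obj L, γ ⁻¹ᵁ (UT f T V)) :=
  pullSec γ (show Γ(L, UT f T V) from b)

lemma pl_add (L : (PicF.XT f T).Modules) (V : X.Opens) (a b : Sec f T L V) :
    pl γ L V (a + b) = pl γ L V a + pl γ L V b :=
  pullSec_add γ (show Γ(L, UT f T V) from a) b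

lemma pl_sub (L : (PicF.XT f T).Modules) (V : X.Opens) (a b : Sec f T L V) :
    pl γ L V (a - b) = pl γ L V a - pl γ L V b := by
  rw [eq_sub_iff_add_eq, ← pl_add, sub_add_cancel]

lemma pl_resB (L : (PicF.XT f T).Modules) {V V' : X.Opens} (h : V' ≤ V) (b : Sec f T L V) :
    pl γ L V' (resB f T L h b) = res _ (γ.preimage_mono (UT_mono f T h)) (pl γ L V b) :=
  (res_pullSec γ (UT_mono f T h) (show Γ(L, UT f T V) from b)).symm

variable (hγ : γ ≫ PicF.XTproj f T = 𝟙 _)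

include hγ in
lemma app_algebraMap (V : X.Opens) (c : Γ(T.left, ⊤)) :
    γ.app (UT f T V) (algebraMap Γ(T.left, ⊤) (Fn f T V) c) = ores le_top c := by
  have h1 : ∀ a : Γ(PicF.XT f T, UT f T V), γ.app (UT f T V) a =
      γ.appLE (UT f T V) (γ ⁻¹ᵁ (UT f T V)) le_rfl a := fun a => by
    rw [Scheme.Hom.app_eq_appLE]
  rw [h1]
  change γ.appLE _ _ _ ((PicF.XTproj f T).appLE ⊤ _ _ c) = _
  rw [← CommRingCat.comp_apply, Scheme.Hom.appLE_comp_appLE]
  have h2 : (γ ≫ PicF.XTproj f T).appLE ⊤ (γ ⁻¹ᵁ (UT f T V)) le_top =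
      T.left.presheaf.map (homOfLE le_top).op := by
    simp only [hγ]
    rw [Scheme.Hom.appLE, Scheme.Hom.id_app, Category.id_comp]
  exact congr($h2 c)

include hγ in
lemma pl_smul (L : (PicF.XT f T).Modules) (V : X.Opens) (c : Γ(T.left, ⊤)) (b : Sec f T L V) :
    pl γ L V (c • b) = (ores le_top c : Γ(T.left, γ ⁻¹ᵁ (UT f T V))) • pl γ L V b := by
  rw [smul_Sec]
  refine (pullSec_smul γ
    (show Γ(PicF.XT f T, UT f T V) from algebraMap Γ(T.left, ⊤) (Fn f T V) c) b).trans ?_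
  rw [app_algebraMap γ hγ]
  rfl

/-- Glue two sections of `γ^* L` agreeing on the overlap. -/
lemma exists_glue (P : P1Data f) (L : (PicF.XT f T).Modules) (b : Sec f T L P.U₀ × Sec f T L P.U₁)
    (h : pl γ L (P.U₀ ⊓ P.U₁) (dd P T L b) = 0) :
    ∃ a : Γ((Scheme.Modules.pullback γ).obj L, ⊤),
      res _ le_top a = pl γ L P.U₀ b.1 ∧ res _ le_top a = pl γ L P.U₁ b.2 := by
  let U : Bool → T.left.Opens := fun i => if i then γ ⁻¹ᵁ (UT f T P.U₀) else γ ⁻¹ᵁ (UT f T P.U₁)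
  let s : ∀ i, Γ((Scheme.Modules.pullback γ).obj L, U i) := fun i => match i with
    | true => pl γ L P.U₀ b.1
    | false => pl γ L P.U₁ b.2
  rw [dd_apply, pl_sub, sub_eq_zero, pl_resB, pl_resB] at h
  obtain ⟨t, ht⟩ := res_glue _ U (V := ⊤) (fun i => le_top) (by
    have h1 : (⊤ : T.left.Opens) = γ ⁻¹ᵁ (UT f T P.U₀) ⊔ γ ⁻¹ᵁ (UT f T P.U₁) := by
      rw [← Scheme.Hom.preimage_sup, UT_sup]
      rfl
    rw [h1]
    exact sup_le (le_iSup U true) (le_iSup U false)) s (by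
    rintro (_ | _) (_ | _)
    · rfl
    · have := congrArg (res _ (show γ ⁻¹ᵁ (UT f T P.U₁) ⊓ γ ⁻¹ᵁ (UT f T P.U₀) ≤
        γ ⁻¹ᵁ (UT f T (P.U₀ ⊓ P.U₁)) from (inf_comm _ _).le)) h
      rw [res_res, res_res] at this
      exact this.symm
    · exact h
    · rfl)
  exact ⟨t, ht true, ht false⟩

section core

variable {P : P1Data f} {F M₁ E : (PicF.XT f T).Modules} (hF : PicF.IsInvertible F)
  (hM₁ : PicF.IsInvertible M₁) {s : Γ(M₁, ⊤)} [QuasiCompact γ]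
  (hs : IsZeroIdeal M₁ s γ.ker) (hγE : BlowUp.IsEffCartierIdeal γ.ker)
  (φ : CohB1.tensorMod F M₁ ≅ E)

/-- The inclusion `F ⟶ E` on sections. -/
noncomputable def mu (s : Γ(M₁, ⊤)) (φ : CohB1.tensorMod F M₁ ≅ E) (V : X.Opens) :
    Sec f T F V →ₗ[Γ(T.left, ⊤)] Sec f T E V :=
  appL φ.hom V ∘ₗ mulSec F M₁ s V

omit [QuasiCompact γ] in
include hF hM₁ hs hγE in
lemma mu_injective (V : X.Opens) : Function.Injective (mu (f := f) s φ V) := fun a b hab =>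
  Picfga.PtTwist.tmul_inj hF hM₁ hs hγE (Picfga.PicGood.app_injective φ _ hab)

lemma mu_resB {V V' : X.Opens} (h : V' ≤ V) (a : Sec f T F V) :
    mu s φ V' (resB f T F h a) = resB f T E h (mu s φ V a) := by
  change appL φ.hom V' (mulSec F M₁ s V' (resB f T F h a)) = _
  rw [mulSec_resB, appL_resB]
  rfl

include hF hM₁ hs hγE in
lemma pl_eq_zero_iff {V : X.Opens} (b : Sec f T E V) :
    pl γ E V b = 0 ↔ ∃ a, mu s φ V a = b := by
  have h1 : pl γ E V b = 0 ↔ pullSec γ (φ.inv.app (UT f T V) b) = 0 := by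
    constructor
    · intro h1
      rw [← pullback_map_pullSec]
      exact (congrArg _ h1).trans (map_zero _)
    · intro h1
      have h2 := congrArg (((Scheme.Modules.pullback γ).map φ.hom).app _) h1
      rw [pullback_map_pullSec, Picfga.PicGood.hom_app_inv_app, map_zero] at h2
      exact h2
  rw [h1, Picfga.PtTwist.exists_tmul_eq_iff hF hM₁ γ hs hγE]
  constructor
  · rintro ⟨n, hn⟩
    refine ⟨n, ?_⟩
    change φ.hom.app _ (tmul n (res M₁ le_top s)) = b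
    rw [hn, Picfga.PicGood.hom_app_inv_app]
  · rintro ⟨n, hn⟩
    refine ⟨n, ?_⟩
    rw [← hn]
    exact (Picfga.PicGood.inv_app_hom_app φ _ _).symm

lemma dd_mu (a : Sec f T F P.U₀ × Sec f T F P.U₁) :
    dd P T E (mu s φ P.U₀ a.1, mu s φ P.U₁ a.2) = mu s φ (P.U₀ ⊓ P.U₁) (dd P T F a) := by
  rw [dd_apply, dd_apply, map_sub, mu_resB, mu_resB]

include hF hM₁ hs hγE in
/-- A pair of sections of `E` vanishing along `γ` comes from `F`. -/
lemma mem_range_of_pl (m : Sec f T F (P.U₀ ⊓ P.U₁)) (b : Sec f T E P.U₀ × Sec f T E P.U₁)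
    (hb : dd P T E b = mu s φ (P.U₀ ⊓ P.U₁) m) (h0 : pl γ E P.U₀ b.1 = 0) (h1 : pl γ E P.U₁ b.2 = 0) :
    m ∈ LinearMap.range (dd P T F) := by
  obtain ⟨a₀, ha₀⟩ := (pl_eq_zero_iff γ hF hM₁ hs hγE φ _).mp h0
  obtain ⟨a₁, ha₁⟩ := (pl_eq_zero_iff γ hF hM₁ hs hγE φ _).mp h1
  refine ⟨(a₀, a₁), mu_injective γ hF hM₁ hs hγE φ _ ?_⟩
  rw [← dd_mu, ← hb]
  exact congrArg _ (Prod.ext ha₀ ha₁)

include hF hM₁ hs hγE in
lemma pl_mu (V : X.Opens) (m : Sec f T F V) : pl γ E V (mu s φ V m) = 0 :=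
  (pl_eq_zero_iff γ hF hM₁ hs hγE φ _).mpr ⟨m, rfl⟩

include hγ hF hM₁ hs hγE φ in
/-- **The multiplier `σ` kills the Cech `H¹` of `F`.** -/
theorem smul_mem_range (hv : H1van P T E) (e : Γ(E, ⊤))
    {e₀ : Γ((Scheme.Modules.pullback γ).obj E, ⊤)} (he₀ : IsGen e₀) {σ : Γ(T.left, ⊤)}
    (hσ : pullTop γ e = σ • e₀) (m : Sec f T F (P.U₀ ⊓ P.U₁)) :
    σ • m ∈ LinearMap.range (dd P T F) := by
  obtain ⟨b, hb⟩ := (h1van_iff P T E).mp hv (mu s φ _ m)
  obtain ⟨a, ha0, ha1⟩ := exists_glue γ P E b (by rw [hb, pl_mu γ hF hM₁ hs hγE φ])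
  obtain ⟨c, hc⟩ := he₀.exists_eq a
  have key : σ • a = c • pullTop γ e := by
    rw [hσ, hc, smul_smul, smul_smul, mul_comm]
  refine mem_range_of_pl γ hF hM₁ hs hγE φ (σ • m) (σ • b - c • pr P T E e) ?_ ?_ ?_
  · rw [map_sub, map_smul, map_smul, LinearMap.mem_ker.mp (pr_mem P T E e), smul_zero, sub_zero, hb,
      map_smul]
  · change pl γ E P.U₀ (σ • b.1 - c • (pr P T E e).1) = 0
    rw [pl_sub, pl_smul γ hγ, pl_smul γ hγ, ← ha0, ← res_smul, key, res_smul, sub_eq_zero]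
    congr 1
    exact res_pullSec γ (le_top : UT f T P.U₀ ≤ ⊤) e
  · change pl γ E P.U₁ (σ • b.2 - c • (pr P T E e).2) = 0
    rw [pl_sub, pl_smul γ hγ, pl_smul γ hγ, ← ha1, ← res_smul, key, res_smul, sub_eq_zero]
    congr 1
    exact res_pullSec γ (le_top : UT f T P.U₁ ≤ ⊤) e

include hγ hF hM₁ hs hγE φ in
/-- **The Cech `H¹` of `F` is generated by one element.** -/
theorem exists_cyclic [IsAffine T.left] [IsClosedImmersion γ] (hE : PicF.IsInvertible E)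
    (hv : H1van P T E)
    {e₀ : Γ((Scheme.Modules.pullback γ).obj E, ⊤)} (he₀ : IsGen e₀) :
    ∃ m₀ : Sec f T F (P.U₀ ⊓ P.U₁), ∀ m : Sec f T F (P.U₀ ⊓ P.U₁), ∃ c : Γ(T.left, ⊤),
      m - c • m₀ ∈ LinearMap.range (dd P T F) := by
  obtain ⟨b₀, hb₀⟩ := Grpsch.CubeLift.pullSec_surjective (i := γ) hE
    (isAffineOpen_UT f P.affine₀ (T := T)) (res _ le_top e₀)
  obtain ⟨b₁, hb₁⟩ := Grpsch.CubeLift.pullSec_surjective (i := γ) hE
    (isAffineOpen_UT f P.affine₁ (T := T)) (res _ le_top e₀)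
  let b' : Sec f T E P.U₀ × Sec f T E P.U₁ := (b₀, b₁)
  have h0 : pl γ E P.U₀ b'.1 = res _ le_top e₀ := hb₀
  have h1 : pl γ E P.U₁ b'.2 = res _ le_top e₀ := hb₁
  obtain ⟨m₀, hm₀⟩ := (pl_eq_zero_iff γ hF hM₁ hs hγE φ (dd P T E b')).mp (by
    rw [dd_apply, pl_sub, pl_resB, pl_resB, h0, h1, res_res, res_res, sub_self])
  refine ⟨m₀, fun m => ?_⟩
  obtain ⟨b, hb⟩ := (h1van_iff P T E).mp hv (mu s φ _ m)
  obtain ⟨a, ha0, ha1⟩ := exists_glue γ P E b (by rw [hb, pl_mu γ hF hM₁ hs hγE φ])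
  obtain ⟨c, hc⟩ := he₀.exists_eq a
  refine ⟨c, mem_range_of_pl γ hF hM₁ hs hγE φ (m - c • m₀) (b - c • b') ?_ ?_ ?_⟩
  · rw [map_sub, map_smul, hb, ← hm₀, map_sub, map_smul]
  · change pl γ E P.U₀ (b.1 - c • b'.1) = 0
    rw [pl_sub, pl_smul γ hγ, ← ha0, h0, hc, res_smul, sub_self]
  · change pl γ E P.U₁ (b.2 - c • b'.2) = 0
    rw [pl_sub, pl_smul γ hγ, ← ha1, h1, hc, res_smul, sub_self]

end core

end K533.ThetaAnn
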