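import Groth.Agent.JacVar.K533.ThetaAlg
import Groth.Agent.JacVar.K533.ThetaAnn

/-!
# The annihilator of the Cech `H¹` of a family and base change
-/

set_option autoImplicit false
set_option backward.isDefEq.respectTransparency false
universe u

open CategoryTheory CategoryTheory.Limits AlgebraicGeometry Opposite TopologicalSpace
open Groth.Agent Groth.Agent.Fdesc.LocGen Groth.Agent.Picfga.P1Def Groth.Agent.Picfga.SecBC
  Groth.Agent.Picfga.LatOf Groth.Agent.Picfga.LatH0
open scoped TensorProduct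

namespace K533.ThetaBC

section alg

variable {B B' N N' M M' : Type u} [CommRing B] [CommRing B'] [Algebra B B']
  [AddCommGroup N] [Module B N] [AddCommGroup M] [Module B M]
  [AddCommGroup N'] [Module B' N'] [Module B N'] [IsScalarTower B B' N']
  [AddCommGroup M'] [Module B' M'] [Module B M'] [IsScalarTower B B' M']
  {p : N →ₗ[B] N'} {b : M →ₗ[B] M'} (hp : IsBaseChange B' p) (hb : IsBaseChange B' b)
  {d : N →ₗ[B] M} {d' : N' →ₗ[B'] M'} (hd : ∀ x, d' (p x) = b (d x))

include hp hb hd in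
lemma mk_eq_zero_of_mem (z : B' ⊗[B] M) (hz : hb.equiv z ∈ LinearMap.range d') :
    (LinearMap.range d).mkQ.baseChange B' z = 0 := by
  obtain ⟨n', hn'⟩ := hz
  obtain ⟨w, rfl⟩ := hp.equiv.surjective n'
  rw [Picfga.KerBC.comm_equiv hp hb hd] at hn'
  rw [← hb.equiv.injective hn', ← LinearMap.comp_apply, ← LinearMap.baseChange_comp,
    LinearMap.range_mkQ_comp, LinearMap.baseChange_zero]
  rfl

include hp hb hd in
lemma cyclic_of (h : ∃ m₀ : M', ∀ m : M', ∃ c : B', m - c • m₀ ∈ LinearMap.range d') :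
    ∃ y₀ : B' ⊗[B] (M ⧸ LinearMap.range d), ∀ y, ∃ c : B', y = c • y₀ := by
  obtain ⟨m₀, hm₀⟩ := h
  refine ⟨(LinearMap.range d).mkQ.baseChange B' (hb.equiv.symm m₀), fun y => ?_⟩
  have hsurj : Function.Surjective ((LinearMap.range d).mkQ.baseChange B') :=
    LinearMap.lTensor_surjective B' (Submodule.mkQ_surjective (LinearMap.range d))
  obtain ⟨z, rfl⟩ := hsurj y
  obtain ⟨c, hc⟩ := hm₀ (hb.equiv z)
  refine ⟨c, ?_⟩
  rw [← map_smul, ← sub_eq_zero, ← map_sub]
  apply mk_eq_zero_of_mem hp hb hd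
  rw [map_sub, map_smul, LinearEquiv.apply_symm_apply]
  exact hc

include hp hb hd in
lemma smul_eq_zero_of {σ : B'} (h : ∀ m : M', σ • m ∈ LinearMap.range d')
    (y : B' ⊗[B] (M ⧸ LinearMap.range d)) : σ • y = 0 := by
  have hsurj : Function.Surjective ((LinearMap.range d).mkQ.baseChange B') :=
    LinearMap.lTensor_surjective B' (Submodule.mkQ_surjective (LinearMap.range d))
  obtain ⟨z, rfl⟩ := hsurj y
  rw [← map_smul]
  apply mk_eq_zero_of_mem hp hb hd
  rw [map_smul]
  exact h _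

lemma smul_mem_range_baseChange {a : B} (ha : ∀ m : M, a • m ∈ LinearMap.range d)
    (z : B' ⊗[B] M) : a • z ∈ LinearMap.range (d.baseChange B') := by
  induction z with
  | zero => rw [smul_zero]; exact zero_mem _
  | add x y hx hy => rw [smul_add]; exact add_mem hx hy
  | tmul c m =>
    obtain ⟨n, hn⟩ := ha m
    exact ⟨c ⊗ₜ n, by rw [LinearMap.baseChange_tmul, hn, TensorProduct.tmul_smul]⟩

include hp hb hd in
lemma surjective_of_isUnit {a : B} (ha : ∀ m : M, a • m ∈ LinearMap.range d)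
    (hu : IsUnit (algebraMap B B' a)) : Function.Surjective d' := by
  rw [← Picfga.KerBC.surj_iff hp hb hd]
  intro z
  obtain ⟨u, hu⟩ := hu
  obtain ⟨w, hw⟩ := smul_mem_range_baseChange (B' := B') ha ((↑u⁻¹ : B') • z)
  refine ⟨w, ?_⟩
  rw [hw, ← algebraMap_smul B' a, ← hu, smul_smul, Units.mul_inv, one_smul]

end alg

variable {k : Type u} [Field k] {X : Scheme.{u}} {f : X ⟶ Spec (CommRingCat.of k)} (P : P1Data f)
  {T T' : Over (Spec (CommRingCat.of k))}

/-- The annihilator of the Cech `H¹` of `F`. -/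
noncomputable def annI (T : Over (Spec (CommRingCat.of k))) (F : (PicF.XT f T).Modules) :
    Ideal Γ(T.left, ⊤) :=
  Module.annihilator Γ(T.left, ⊤) (Sec f T F (P.U₀ ⊓ P.U₁) ⧸ LinearMap.range (dd P T F))

lemma mem_annI {F : (PicF.XT f T).Modules} {a : Γ(T.left, ⊤)} :
    a ∈ annI P T F ↔ ∀ m : Sec f T F (P.U₀ ⊓ P.U₁), a • m ∈ LinearMap.range (dd P T F) := by
  rw [annI, Module.mem_annihilator]
  constructor
  · intro h m
    have := h (Submodule.Quotient.mk m)
    rwa [← Submodule.Quotient.mk_smul, Submodule.Quotient.mk_eq_zero] at this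
  · intro h y
    obtain ⟨m, rfl⟩ := Submodule.mkQ_surjective _ y
    rw [← map_smul, Submodule.mkQ_apply, Submodule.Quotient.mk_eq_zero]
    exact h m

lemma finite_coker [IsAffine T.left] {F : (PicF.XT f T).Modules} (hF : PicF.IsInvertible F) :
    Module.Finite Γ(T.left, ⊤) (Sec f T F (P.U₀ ⊓ P.U₁) ⧸ LinearMap.range (dd P T F)) := by
  obtain ⟨W, hW, hWd⟩ := (latOf T P hF).exists_fg_coker
  rw [latOf_d] at hWd
  have h1 : W.map (LinearMap.range (dd P T F)).mkQ = ⊤ := by
    have h2 := congrArg (Submodule.map (LinearMap.range (dd P T F)).mkQ) hWd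
    have h3 : (LinearMap.range (dd P T F)).map (LinearMap.range (dd P T F)).mkQ = ⊥ := by
      rw [eq_bot_iff, Submodule.map_le_iff_le_comap]
      intro x hx
      rw [Submodule.mem_comap, Submodule.mem_bot, Submodule.mkQ_apply,
        Submodule.Quotient.mk_eq_zero]
      exact hx
    rw [Submodule.map_sup, h3, sup_bot_eq, Submodule.map_top, Submodule.range_mkQ] at h2
    exact h2
  exact ⟨h1 ▸ hW.map _⟩

variable [IsAffine T.left] [IsAffine T'.left] (g : T' ⟶ T)

/-- **Comparison of the annihilators.** -/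
theorem exists_mul_mem {F : (PicF.XT f T).Modules} (hF : PicF.IsInvertible F)
    {K : Type u} [Field K] (ρ : Γ(T'.left, ⊤) →+* K)
    (hcyc : ∃ m₀ : Sec f T' (pb f g F) (P.U₀ ⊓ P.U₁), ∀ m : Sec f T' (pb f g F) (P.U₀ ⊓ P.U₁),
      ∃ c : Γ(T'.left, ⊤), m - c • m₀ ∈ LinearMap.range (dd P T' (pb f g F)))
    {σ : Γ(T'.left, ⊤)} (hσ : σ ∈ annI P T' (pb f g F)) :
    ∃ h : Γ(T.left, ⊤), ρ (g.left.appTop.hom h) ≠ 0 ∧
      g.left.appTop.hom (h * h) * σ ∈ (annI P T F).map g.left.appTop.hom := by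
  letI := algT g
  letI i (V : X.Opens) : Module Γ(T.left, ⊤) (Sec f T' (pb f g F) V) :=
    Module.compHom _ (algebraMap Γ(T.left, ⊤) Γ(T'.left, ⊤))
  haveI (V : X.Opens) : IsScalarTower Γ(T.left, ⊤) Γ(T'.left, ⊤) (Sec f T' (pb f g F) V) :=
    ⟨fun a b c => by rw [Algebra.smul_def, mul_smul]; rfl⟩
  have hq := Ega2.QCohLocal.isQCoh_of_isInvertible hF
  have hp := Picfga.KerBC.isBaseChange_prodMap (isBaseChange_pbSecL f g P.affine₀ F hq)
    (isBaseChange_pbSecL f g P.affine₁ F hq)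
  have hb := isBaseChange_pbSecL f g (isAffineOpen_inf P) F hq
  have hd : ∀ x, dd P T' (pb f g F) _ = _ := fun x => dd_pbSec P g F x
  letI : Algebra Γ(T'.left, ⊤) K := ρ.toAlgebra
  letI : Algebra Γ(T.left, ⊤) K := (ρ.comp (algebraMap Γ(T.left, ⊤) Γ(T'.left, ⊤))).toAlgebra
  haveI : IsScalarTower Γ(T.left, ⊤) Γ(T'.left, ⊤) K := .of_algebraMap_eq' rfl
  haveI := finite_coker P hF
  exact ThetaAlg.exists_mul_mem_map_annihilator K
    (cyclic_of hp hb (d := dd P T F) (d' := dd P T' (pb f g F)) hd hcyc) σ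
    (smul_eq_zero_of hp hb (d := dd P T F) (d' := dd P T' (pb f g F)) hd ((mem_annI P).mp hσ))

/-- An element of the annihilator is a unit only where `H¹` vanishes. -/
theorem h1van_of_isUnit {F : (PicF.XT f T).Modules} (hF : PicF.IsInvertible F)
    {a : Γ(T.left, ⊤)} (ha : a ∈ annI P T F) (hu : IsUnit (g.left.appTop.hom a)) :
    H1van P T' (pb f g F) := by
  letI := algT g
  letI i (V : X.Opens) : Module Γ(T.left, ⊤) (Sec f T' (pb f g F) V) :=
    Module.compHom _ (algebraMap Γ(T.left, ⊤) Γ(T'.left, ⊤))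
  haveI (V : X.Opens) : IsScalarTower Γ(T.left, ⊤) Γ(T'.left, ⊤) (Sec f T' (pb f g F) V) :=
    ⟨fun a b c => by rw [Algebra.smul_def, mul_smul]; rfl⟩
  have hq := Ega2.QCohLocal.isQCoh_of_isInvertible hF
  have hp := Picfga.KerBC.isBaseChange_prodMap (isBaseChange_pbSecL f g P.affine₀ F hq)
    (isBaseChange_pbSecL f g P.affine₁ F hq)
  have hb := isBaseChange_pbSecL f g (isAffineOpen_inf P) F hq
  rw [h1van_iff]
  exact surjective_of_isUnit hp hb (d := dd P T F) (d' := dd P T' (pb f g F))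
    (fun x => dd_pbSec P g F x) ((mem_annI P).mp ha) hu

end K533.ThetaBC
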