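import Groth.Agent.JacVar.K533.ThetaLam
import Groth.Agent.AbDual.K732.AV
import Groth.Agent.AbDual.K732.Prim
import Groth.Agent.AbVar.K528.MumZero

/-!
# `λ_Θ` followed by the dual of the Abel map is the inversion
-/

set_option autoImplicit false
set_option backward.isDefEq.respectTransparency false
set_option linter.unusedSectionVars false
set_option linter.overlappingInstances false
universe u
open CategoryTheory CategoryTheory.Limits AlgebraicGeometry Opposite TopologicalSpace MonObj MonoidalCategory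
  CartesianMonoidalCategory

namespace K533.ThetaDual

open Groth.Agent Groth.Agent.Grpsch Groth.Agent.Grpsch.PicGrp Groth.Agent.Fga.RigGrp
open K732.PicZero K732.Dual K732.Prim K528.MumZero K521.Lam Groth.Agent.Grpsch.Cube

section general

variable {k : Type u} [Field k] {A At : Over (Spec (CommRingCat.of k))} [GrpObj A] [GrpObj At]
  [LocallyOfFiniteType A.hom] [QuasiCompact A.hom]
  [GeometricallyConnected A.hom]

/-- The Mumford class at points. -/
theorem ev_mumCl {T : Over (Spec (CommRingCat.of k))} (c : Pic A.left) (a b : T ⟶ A) :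
    ev a b (mumCl A c) = lam c a b := by
  rw [ev_def, pull_lift_mumCl]
  rfl

theorem mumCl_mem_rg (c : Pic A.left) : mumCl A c ∈ rg A A := by
  rw [mem_rg_iff, ev_mumCl, lam_one_left]

variable {φ : AgPol.DualMap A At} (hD : AbDual.IsDualAV Scheme.fppfPrecoverage A At φ)
  (hF : ∀ T : Over (Spec (CommRingCat.of k)), Function.Bijective (PicF.XTproj A.hom T).appTop)
  {ζ : Pic (PicF.XT A.hom At)} (h1 : ζ ∈ pz A.hom At) (h2 : ζ ∈ rg A At) (h3 : cm φ ζ = 𝟙 At)
  {L : A.left.Modules} (hL : PicF.IsInvertible L) {l : A ⟶ At} (hl : AgPol.IsLambda A At φ L l)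

include hL hl in
theorem mumCl_mem_pz : mumCl A (mk L hL) ∈ pz A.hom A := by
  obtain ⟨N, hN, hNL, -⟩ := hl
  rw [← mk_eq_mumCl A hL hN hNL]
  exact isPicZeroCl_iff.1 (isPicZeroCl_of_isLambdaSheaf A hL hN hNL)

include hl in
theorem cm_mumCl : cm φ (mumCl A (mk L hL)) = l := by
  obtain ⟨N, hN, hNL, rfl⟩ := hl
  rw [← mk_eq_mumCl A hL hN hNL]
  rfl

include hD hF h1 h2 h3 hl

/-- The Poincaré class pulled back along `1 × λ_L` is the Mumford class. -/
theorem pull_lam : pull (PicF.XTmap A.hom l) ζ = mumCl A (mk L hL) := by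
  have e := eq_pull_poinc hD hF h1 h2 h3 (mumCl_mem_pz hL hl) (mumCl_mem_rg (mk L hL))
  rw [cm_mumCl hL hl] at e
  exact e.symm

/-- The Poincaré class at a point of the image of `λ_L`. -/
theorem ev_lam {T : Over (Spec (CommRingCat.of k))} (a b : T ⟶ A) :
    ev a (b ≫ l) ζ = lam (mk L hL) a b := by
  rw [← ev_XTmap, pull_lam hD hF h1 h2 h3 hL hl, ev_mumCl]

variable [IsProper A.hom] [GeometricallyIntegral A.hom]

include hL

/-- `λ_L` is a homomorphism. -/
theorem mul_comp_lam {T : Over (Spec (CommRingCat.of k))} (a b : T ⟶ A) : (a * b) ≫ l = (a ≫ l) * (b ≫ l) := by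
  have e : ∀ x : T ⟶ A, x ≫ l = cm φ (pull (PicF.XTmap A.hom (x ≫ l)) ζ) := fun x => by
    rw [cm_pull hD _ h1, h3, Category.comp_id]
  rw [e (a * b), e a, e b, ← cm_mul hD (pull_XTmap_mem _ h1) (pull_XTmap_mem _ h1)]
  congr 1
  refine ext_ev fun W x g => ?_
  rw [map_mul, ev_XTmap, ev_XTmap, ev_XTmap, ← Category.assoc, ← Category.assoc, ← Category.assoc,
    ev_lam hD hF h1 h2 h3 hL hl, ev_lam hD hF h1 h2 h3 hL hl, ev_lam hD hF h1 h2 h3 hL hl, MonObj.comp_mul,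
    lam_mul_right]

theorem isMonHom_lam : IsMonHom l :=
  ThetaLam.isMonHom_of_mul' l fun _ a b => mul_comp_lam hD hF h1 h2 h3 hL hl a b

end general

section curve

open Groth.Agent.Fga.JacSum Groth.Agent.Fga.JacAlg Groth.Agent.Picfga.ChiDef Groth.Agent.Fga.JacSurj
open Groth.Agent.Sga7.H732 Groth.Agent.Sga7.H732.Hedge
open K914.Curve K914.Cls K914.HField K533.Cst K533.ThetaFam K533.ThetaLocus K533.ThetaW

variable {k : Type u} [Field k] {X : Scheme.{u}} {f : X ⟶ Spec (CommRingCat.of k)}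
  [IsProper f] [Smooth f] [GeometricallyConnected f] [SmoothOfRelativeDimension 1 f]
  {σ : Spec (CommRingCat.of k) ⟶ X} {hσ : σ ≫ f = 𝟙 (Spec (CommRingCat.of k))}
  {J : Over (Spec (CommRingCat.of k))} [GrpObj J] {ξ : Pic (PicF.XT f J)} (h : IsJac f σ hσ J ξ)
  [IsCommMonObj J] [IsProper J.hom] [GeometricallyIntegral J.hom] [GeometricallyConnected J.hom]
  {ψ : (ModFun.PicDeg f 0).Hom ⊤ J} (hψ : CompatCl f σ hσ ψ ξ)
  {α : Over.mk f ⟶ J} (hα : ∀ (T : Over (Spec (CommRingCat.of k))) (z : Pt f T),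
      Abel.cls h T (Abel.ptHom z ≫ α) = acl f σ hσ z)
  {N : X.Modules} (hN : PicF.IsInvertible N) {n : ℕ} (hn : chiK f (𝟙 (Spec (CommRingCat.of k))) 1 + n = 1)
  (hNd : dK f (𝟙 (Spec (CommRingCat.of k))) (cst f (Over.mk (𝟙 _)) (mk N hN)) = n - 1)
  {ΘL : J.left.Modules} (hΘ : Jac.IsThetaLB f 0 ψ N ΘL)
  {Jt : Over (Spec (CommRingCat.of k))} [GrpObj Jt] {φ : AgPol.DualMap J Jt}
  (hD : AbDual.IsDualAV Scheme.fppfPrecoverage J Jt φ)
  {ζ : Pic (PicF.XT J.hom Jt)} (h1 : ζ ∈ pz J.hom Jt) (h2 : ζ ∈ rg J Jt) (h3 : cm φ ζ = 𝟙 Jt)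
  {l : J ⟶ Jt} (hl : AgPol.IsLambda J Jt φ ΘL l)
  {fd : Jt ⟶ J} (hfd : pull (PicF.XTmap f fd) ξ = pull (AbDual.bcMap α Jt) ζ)

include h hψ hα hn hNd hΘ hl hfd hD h1 h2 h3 in
/-- **`λ_Θ` followed by the dual of the Abel map is the inversion.** -/
theorem lam_comp_fd (hdim : topologicalKrullDim X = 1) : l ≫ fd = (𝟙 J)⁻¹ := by
  refine ThetaLam.eq_inv h hψ hα hN hn hNd hΘ ?_ hdim
  let b₁ : PicF.XT f Jt ⟶ PicF.XT J.hom Jt := AbDual.bcMap α Jt
  let b₂ : PicF.XT f J ⟶ PicF.XT J.hom J := AbDual.bcMap α J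
  have f1 : b₁ ≫ pullback.fst J.hom Jt.hom = pullback.fst f Jt.hom ≫ α.left := bcMap_fst α Jt
  have f2 : b₂ ≫ pullback.fst J.hom J.hom = pullback.fst f J.hom ≫ α.left := bcMap_fst α J
  have e4 : b₁ ≫ PicF.XTproj J.hom Jt = PicF.XTproj f Jt := by
    refine (pullback.lift_snd _ _ _).trans ?_
    exact Category.comp_id _
  have e5 : b₂ ≫ PicF.XTproj J.hom J = PicF.XTproj f J := by
    refine (pullback.lift_snd _ _ _).trans ?_
    exact Category.comp_id _
  have e0 : PicF.XTmap f l ≫ b₁ = b₂ ≫ PicF.XTmap J.hom l := by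
    apply pullback.hom_ext
    · rw [Category.assoc, Category.assoc, f1, XTmap_fst, XTmap_fst_assoc, f2]
    · change (_ ≫ _) ≫ PicF.XTproj J.hom Jt = (_ ≫ _) ≫ PicF.XTproj J.hom Jt
      rw [Category.assoc, Category.assoc, e4, XTmap_XTproj, XTmap_XTproj, ← Category.assoc, e5]
  have e1 : pull (PicF.XTmap f (l ≫ fd)) ξ = pull b₂ (pull (PicF.XTmap J.hom l) ζ) := by
    rw [XTmap_comp, pull_comp, hfd, ← pull_comp b₂, ← e0]
    exact (pull_comp (PicF.XTmap f l) b₁ ζ).symm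
  rw [e1, pull_lam hD (K732.CubeSec.bijective_XTproj J.hom) h1 h2 h3 hΘ.1 hl]
  have e6 := pull_lift_mumCl J (mk ΘL hΘ.1) (Abel.ptHom (xx f J) ≫ α) (prZ f J)
  have e7 : (lift (Abel.ptHom (xx f J) ≫ α) (prZ f J)).left = b₂ := by
    apply pullback.hom_ext
    · rw [f2]
      exact congrArg (fun g => Over.Hom.left g) (lift_fst (Abel.ptHom (xx f J) ≫ α) (prZ f J))
    · exact (congrArg (fun g => Over.Hom.left g) (lift_snd (Abel.ptHom (xx f J) ≫ α) (prZ f J))).trans e5.symm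
  rw [e7] at e6
  exact e6

end curve

end K533.ThetaDual
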