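import Groth.Agent.JacVar.K533.ThetaComap
import Groth.Agent.JacVar.K531.Perm
import Groth.Agent.Fga.ZeroClass
import Groth.Agent.Sga7.H591.Dcl

/-!
# The ideal of the theta locus pulled back to `X × Z`

`F` an invertible module on `X × J`, `Θ ⊆ J` closed in which the points `z` with `H¹(X_z, F_z) ≠ 0` are dense.
`Z` reduced with points `w_i ∈ X(Z)`, pairwise distinct on fibres and with `H¹(X_z, O(∑ w_i)) = 0`;
`h : X × Z ⟶ J` with `h^* F ≅ O(∑ w_i)(-Δ)` and `h(w_i(z), z) ∈ Θ`.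
Then `I_Θ O_{X × Z} = ∏ I_{w_i}` (`comap_eq`).
-/

set_option autoImplicit false
set_option backward.isDefEq.respectTransparency false
universe u

open CategoryTheory CategoryTheory.Limits AlgebraicGeometry Opposite TopologicalSpace
open Groth.Agent Groth.Agent.Fdesc.LocGen Groth.Agent.Picfga.P1Def Groth.Agent.Picfga.SecBC
  Groth.Agent.Picfga.LatOf Groth.Agent.Picfga.LatH0 Groth.Agent.Picfga.PtStep
  Groth.Agent.Picfga.PicGood Groth.Agent.Grpsch.PicGrp Groth.Agent.Fga.JacSum Groth.Agent.Fga.RigGrp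
  Groth.Agent.Picfga.ZeroDef Groth.Agent.Picfga.SecGraph Groth.Agent.Fga.JacFactor
open scoped TensorProduct

namespace K533.ThetaFam

open ThetaBC ThetaComap ThetaAnn K531.Perm

variable {k : Type u} [Field k] {X : Scheme.{u}} {f : X ⟶ Spec (CommRingCat.of k)} (P : P1Data f)

/-! ### Vanishing of `H¹` near a point -/

lemma isUnit_of_forall_mem {Y : Scheme.{u}} (a : Γ(Y, ⊤)) (h : ∀ y : Y, y ∈ Y.basicOpen a) : IsUnit a := by
  have h1 : Y.basicOpen a = ⊤ := top_le_iff.mp fun y _ => h y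
  have h2 : IsUnit (Y.presheaf.map (homOfLE (Y.basicOpen_le a)).op a) := Y.toRingedSpace.isUnit_res_basicOpen a
  obtain ⟨b, hb⟩ := h2.exists_right_inv
  have h3 : ∀ (U : Y.Opens) (hU : U = ⊤) (c : Γ(Y, U)), Y.presheaf.map (homOfLE (le_top : U ≤ ⊤)).op a * c = 1 →
      IsUnit a := by
    intro U hU c hc
    subst hU
    have h4 : Y.presheaf.map (homOfLE (le_top : (⊤ : Y.Opens) ≤ ⊤)).op a = a := by
      change Y.presheaf.map (𝟙 _) a = a
      rw [CategoryTheory.Functor.map_id]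
      rfl
    rw [h4] at hc
    exact IsUnit.of_mul_eq_one c hc
  exact h3 _ h1 b hb

lemma mem_basicOpen_of_isUnit {T : Over (Spec (CommRingCat.of k))} (t : T.left) (a : Γ(T.left, ⊤))
    (h : (ptHom T t).left.appTop.hom a ≠ 0) : t ∈ T.left.basicOpen a := by
  by_contra ht
  apply h
  have h1 : (ptHom T t).left ⁻¹ᵁ (T.left.basicOpen a) = ⊥ := by
    ext y
    have hy : T.left.fromSpecResidueField t y = t := Scheme.fromSpecResidueField_apply _ _
    have h3 : y ∈ (ptHom T t).left ⁻¹ᵁ (T.left.basicOpen a) ↔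
      T.left.fromSpecResidueField t y ∈ T.left.basicOpen a := Iff.rfl
    rw [hy] at h3
    exact ⟨fun h => ht (h3.mp h), fun h => h.elim⟩
  rw [Scheme.preimage_basicOpen_top] at h1
  have : IsReduced (ptOver T t).left := inferInstanceAs (IsReduced (Spec _))
  exact (basicOpen_eq_bot_iff _).mp h1

/-- A finite cokernel vanishing at a point is killed by a function not vanishing at that point. -/
lemma exists_annI {T : Over (Spec (CommRingCat.of k))} [IsAffine T.left] {E : (PicF.XT f T).Modules}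
    (hE : PicF.IsInvertible E) (t : T.left) (h : H1van P (ptOver T t) (pb f (ptHom T t) E)) :
    ∃ a ∈ annI P T E, t ∈ T.left.basicOpen a := by
  let g := ptHom T t
  let := algT g
  have hq := Ega2.QCohLocal.isQCoh_of_isInvertible hE
  have h1 := (h1van_pb_iff P g E hq).mp h
  let := (isField_pt (T := T) t).toField
  have := finite_coker P hE
  have hsub : Subsingleton (Γ((ptOver T t).left, ⊤) ⊗[Γ(T.left, ⊤)]
      (Sec f T E (P.U₀ ⊓ P.U₁) ⧸ LinearMap.range (dd P T E))) := by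
    have key : ∀ x : Γ((ptOver T t).left, ⊤) ⊗[Γ(T.left, ⊤)]
      (Sec f T E (P.U₀ ⊓ P.U₁) ⧸ LinearMap.range (dd P T E)), x = 0 := by
      intro x
      have hs' : Function.Surjective ((LinearMap.range (dd P T E)).mkQ.baseChange Γ((ptOver T t).left, ⊤)) :=
        LinearMap.lTensor_surjective _ (Submodule.mkQ_surjective _)
      obtain ⟨y, rfl⟩ := hs' x
      obtain ⟨z, rfl⟩ := h1 y
      rw [← LinearMap.comp_apply, ← LinearMap.baseChange_comp, LinearMap.range_mkQ_comp,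
        LinearMap.baseChange_zero]
      rfl
    exact ⟨fun x y => by rw [key x, key y]⟩
  obtain ⟨a, ha, ha'⟩ := Picfga.P1Alg.exists_smul_eq_zero Γ((ptOver T t).left, ⊤) _ hsub
  exact ⟨a, Module.mem_annihilator.mpr ha', mem_basicOpen_of_isUnit t a ha⟩

/-- `H¹` vanishes over an affine neighbourhood of a point at which it vanishes. -/
theorem exists_h1van_nhd {Z : Over (Spec (CommRingCat.of k))} {E : (PicF.XT f Z).Modules}
    (hE : PicF.IsInvertible E) (z : Z.left) (h : H1van P (ptOver Z z) (pb f (ptHom Z z) E)) :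
    ∃ U : Z.left.Opens, z ∈ U ∧ ∀ (T : Over (Spec (CommRingCat.of k))) [IsAffine T.left] (g : T ⟶ Z),
      (∀ t, g.left t ∈ U) → H1van P T (pb f g E) := by
  obtain ⟨U₀, hU₀, hzU₀, -⟩ := exists_isAffineOpen_mem_and_subset (U := (⊤ : Z.left.Opens)) (x := z) trivial
  have : IsAffine U₀.toScheme := hU₀
  have : IsAffine (opn Z U₀).left := hU₀
  let z' : (opn Z U₀).left := (⟨z, hzU₀⟩ : U₀)
  obtain ⟨a, ha, hza⟩ := exists_annI P (T := opn Z U₀) (isInvertible_pullback (PicF.XTmap f (opnι Z U₀)) hE) z'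
    ((h1van_pt_iff P (opnι Z U₀) E hE z').mpr h)
  refine ⟨U₀.ι ''ᵁ ((opn Z U₀).left.basicOpen a), ⟨z', hza, rfl⟩, fun T _ g hg => ?_⟩
  have hU : ∀ t, g.left t ∈ U₀ := fun t => by
    obtain ⟨y, -, hy⟩ := hg t
    rw [← hy]
    exact y.2
  have hr : Set.range g.left ⊆ Set.range U₀.ι := by
    rintro _ ⟨t, rfl⟩
    exact ⟨⟨g.left t, hU t⟩, rfl⟩
  let g₀ : T ⟶ opn Z U₀ := Over.homMk (IsOpenImmersion.lift U₀.ι g.left hr) (by
    change IsOpenImmersion.lift U₀.ι g.left hr ≫ U₀.ι ≫ Z.hom = T.hom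
    rw [IsOpenImmersion.lift_fac_assoc, Over.w])
  have hg₀ : g₀ ≫ opnι Z U₀ = g := by
    ext : 1
    exact IsOpenImmersion.lift_fac U₀.ι g.left hr
  obtain ⟨φ, -⟩ := exists_pbComp f g₀ (opnι Z U₀) g hg₀ E
  refine (h1van_iso_iff P φ).mp (h1van_of_isUnit P g₀ (isInvertible_pullback _ hE) ha
    (isUnit_of_forall_mem _ fun t => ?_))
  have h1 : t ∈ g₀.left ⁻¹ᵁ ((opn Z U₀).left.basicOpen a) := by
    obtain ⟨y, hy, hy'⟩ := hg t
    have h2 : U₀.ι (g₀.left t) = g.left t := by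
      rw [← hg₀]; rfl
    have h3 : g₀.left t = y := U₀.ι.isOpenEmbedding.injective (h2.trans hy'.symm)
    change g₀.left t ∈ (opn Z U₀).left.basicOpen a
    rw [h3]
    exact hy
  rw [Scheme.preimage_basicOpen_top] at h1
  exact h1

/-! ### Ideal sheaves -/

/-- The vanishing ideal of a closed set pulls back to zero on a reduced scheme mapping into it. -/
theorem comap_vanishingIdeal_eq_bot {Y Z : Scheme.{u}} [IsReduced Z] (g : Z ⟶ Y) (Θ : Closeds Y)
    (h : ∀ z, g z ∈ Θ) : (Scheme.IdealSheafData.vanishingIdeal Θ).comap g = ⊥ := by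
  have h0 : (⊥ : Z.IdealSheafData) = Scheme.IdealSheafData.vanishingIdeal ⊤ := by
    rw [Scheme.IdealSheafData.vanishingIdeal_top, Scheme.nilradical_eq_bot]
  rw [← le_bot_iff, ← Scheme.IdealSheafData.le_map_iff_comap_le, h0,
    Scheme.IdealSheafData.map_vanishingIdeal]
  apply Scheme.IdealSheafData.vanishingIdeal_antimono
  rw [← SetLike.coe_subset_coe]
  refine closure_minimal ?_ Θ.isClosed
  rintro _ ⟨z, -, rfl⟩
  exact h z

/-- An ideal sheaf contained in pairwise coprime ideal sheaves is contained in their product. -/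
theorem le_prod {Y : Scheme.{u}} {n : ℕ} (I : Fin n → Y.IdealSheafData)
    (hI : Pairwise fun i j => I i ⊔ I j = ⊤) {K : Y.IdealSheafData} (hK : ∀ i, K ≤ I i) :
    K ≤ ∏ i, I i := by
  have h1 : ∀ (s : Finset (Fin n)) (U : Y.affineOpens), (∏ i ∈ s, I i).ideal U = ∏ i ∈ s, (I i).ideal U := by
    classical
    intro s U
    induction s using Finset.induction with
    | empty =>
      rw [Finset.prod_empty, Finset.prod_empty]
      simp
    | insert a s hs ih =>
      rw [Finset.prod_insert hs, Finset.prod_insert hs, Scheme.IdealSheafData.ideal_mul, Pi.mul_apply, ih]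
  intro U
  rw [h1, Ideal.prod_eq_iInf_of_pairwise_isCoprime]
  · exact le_iInf fun i => le_iInf fun _ => hK i U
  · intro i _ j _ hij
    change IsCoprime ((I i).ideal U) ((I j).ideal U)
    rw [Ideal.isCoprime_iff_sup_eq]
    have h2 := congrArg (fun J : Y.IdealSheafData => J.ideal U) (hI hij)
    simpa using h2

/-! ### Local triviality of classes -/

theorem exists_isGen_of_eq_one {Y : Scheme.{u}} {L : Y.Modules} (hL : PicF.IsInvertible L)
    (h : mk L hL = 1) : ∃ e : Γ(L, ⊤), IsGen e := by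
  obtain ⟨φ⟩ := (mk_eq_one_iff hL).mp h
  exact ⟨φ.inv.app ⊤ (one ⊤), (isGen_one ⊤).app φ.inv⟩

theorem eq_one_of_isGen {Y : Scheme.{u}} {L : Y.Modules} (hL : PicF.IsInvertible L)
    {e : Γ(L, ⊤)} (he : IsGen e) : mk L hL = 1 := by
  rw [mk_eq_one_iff]
  have : IsIso (homOf e) := (isIso_iff_isGen (homOf e)).mpr (by rwa [sec_homOf, res_refl])
  exact ⟨(asIso (homOf e)).symm⟩

theorem exists_affine_triv {Y : Scheme.{u}} (c₁ c₂ : Pic Y) (y : Y) (W : Y.Opens) (hy : y ∈ W) :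
    ∃ V : Y.affineOpens, y ∈ V.1 ∧ V.1 ≤ W ∧ pull V.1.ι c₁ = 1 ∧ pull V.1.ι c₂ = 1 := by
  obtain ⟨L₁, h₁, rfl⟩ := exists_mk c₁
  obtain ⟨L₂, h₂, rfl⟩ := exists_mk c₂
  obtain ⟨U₁, e₁, hy₁, he₁⟩ := (isInvertible_iff L₁).mp h₁ y
  obtain ⟨U₂, e₂, hy₂, he₂⟩ := (isInvertible_iff L₂).mp h₂ y
  obtain ⟨V, hV, hyV, hVW⟩ := exists_isAffineOpen_mem_and_subset (U := W ⊓ (U₁ ⊓ U₂)) (x := y)
    ⟨hy, hy₁, hy₂⟩
  have hV1 : V ≤ U₁ := fun z hz => (hVW hz).2.1
  have hV2 : V ≤ U₂ := fun z hz => (hVW hz).2.2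
  have key : ∀ {L : Y.Modules} (hL : PicF.IsInvertible L) {U : Y.Opens} (e : Γ(L, U)) (_ : IsGen e)
      (_ : V ≤ U), pull V.ι (mk L hL) = 1 := by
    intro L hL U e he hVU
    rw [pull_mk]
    have h3 := (he.res hVU).pullSec V.ι
    have h4 : (⊤ : V.toScheme.Opens) ≤ V.ι ⁻¹ᵁ V := V.ι_preimage_self.ge
    exact eq_one_of_isGen _ (h3.res h4)
  exact ⟨⟨V, hV⟩, hyV, fun z hz => (hVW hz).1, key h₁ e₁ he₁ hV1, key h₂ e₂ he₂ hV2⟩

/-! ### The main computation -/

section main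

variable {J : Over (Spec (CommRingCat.of k))} {F : (PicF.XT f J).Modules}
  (hF : PicF.IsInvertible F) {Θ : Closeds J.left}
  (hΘ : (Θ : Set J.left) ⊆ closure {z | ¬ H1van P (ptOver J z) (pb f (ptHom J z) F)})

/-- `X × Z` as a scheme over `k`. -/
noncomputable abbrev XZ (f : X ⟶ Spec (CommRingCat.of k)) (Z : Over (Spec (CommRingCat.of k))) :
    Over (Spec (CommRingCat.of k)) :=
  Over.mk (PicF.XTproj f Z ≫ Z.hom)

/-- The projection `X × Z ⟶ Z`. -/
noncomputable abbrev prZ (f : X ⟶ Spec (CommRingCat.of k)) (Z : Over (Spec (CommRingCat.of k))) :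
    XZ f Z ⟶ Z := Over.homMk (PicF.XTproj f Z) rfl

/-- The projection `X × Z ⟶ X`. -/
noncomputable abbrev xx (f : X ⟶ Spec (CommRingCat.of k)) (Z : Over (Spec (CommRingCat.of k))) :
    Pt f (XZ f Z) := ⟨pullback.fst f Z.hom, pullback.condition⟩

variable [SmoothOfRelativeDimension 1 f] [IsSeparated f] {Z : Over (Spec (CommRingCat.of k))} {n : ℕ}
  (w : Fin n → Pt f Z)
  (hw1 : ∀ (E : (PicF.XT f Z).Modules) (hE : PicF.IsInvertible E), mk E hE = (∏ i, gcl f (w i))⁻¹ →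
    ∀ z : Z.left, H1van P (ptOver Z z) (pb f (ptHom Z z) E))
  (h : XZ f Z ⟶ J) (β : Pic (XZ f Z).left)
  (hcl : pull (PicF.XTmap f h) (mk F hF) =
    gcl f (xx f Z) * pull (PicF.XTmap f (prZ f Z)) (∏ i, gcl f (w i))⁻¹ *
      pull (PicF.XTproj f (XZ f Z)) β)

include hΘ hw1 hcl in
theorem le_comap : (∏ i, HilbD.secGraph f Z (w i).1 (w i).2) ≤
    (Scheme.IdealSheafData.vanishingIdeal Θ).comap h.left := by
  obtain ⟨hD, hDcl⟩ := dcl_prod (fun i => HilbD.secGraph f Z (w i).1 (w i).2)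
    (fun i => isEff_secGraph f (w i))
  set D : (PicF.XT f Z).IdealSheafData := ∏ i, HilbD.secGraph f Z (w i).1 (w i).2 with hDdef
  obtain ⟨E, hE, e, he⟩ := Picfga.ZeroDiv.exists_section_of_isEffCartier hD
  have hEcl : mk E hE = (∏ i, gcl f (w i))⁻¹ := by
    rw [Fga.ZeroClass.mk_eq_inv_dcl hE e he hD, hDcl]
    rfl
  refine ThetaComap.le_comap P hF hΘ (T := XZ f Z) h D fun t => ?_
  obtain ⟨U, hzU, hU⟩ := exists_h1van_nhd P hE ((prZ f Z).left t) (hw1 E hE hEcl _)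
  obtain ⟨V, htV, hVU, hβ, hEV⟩ := exists_affine_triv β (mk E hE : Pic (XZ f Z).left) t
    ((prZ f Z).left ⁻¹ᵁ U) hzU
  have hVaff : IsAffine V.1.toScheme := V.2
  have hVaff' : IsAffine (opn (XZ f Z) V.1).left := V.2
  refine ⟨V, htV, ?_⟩
  let T : Over (Spec (CommRingCat.of k)) := opn (XZ f Z) V.1
  let i : T ⟶ XZ f Z := opnι (XZ f Z) V.1
  let x : Pt f T := (xx f Z).comp i
  let γ : T.left ⟶ PicF.XT f T := sec f T x.1 x.2
  let g : T ⟶ Z := i ≫ prZ f Z
  have hγ : γ ≫ PicF.XTproj f T = 𝟙 _ := sec_proj f x.1 x.2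
  have hγg : γ ≫ PicF.XTmap f g = V.1.ι := by
    apply pullback.hom_ext
    · rw [Category.assoc, Fga.RigGrp.XTmap_fst]
      exact sec_fst f x.1 x.2
    · change (γ ≫ PicF.XTmap f g) ≫ PicF.XTproj f Z = _
      rw [Category.assoc, Fga.RigGrp.XTmap_XTproj, ← Category.assoc, hγ, Category.id_comp]
      rfl
  obtain ⟨M₁, hM₁, s, hs⟩ := Picfga.ZeroDiv.exists_section_of_isEffCartier (isEff_secGraph f x)
  have hM₁cl : mk M₁ hM₁ = (gcl f x)⁻¹ := Fga.ZeroClass.mk_eq_inv_dcl hM₁ s hs (isEff_secGraph f x)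
  have hF' := isInvertible_pullback (PicF.XTmap f (i ≫ h)) hF
  have hE' := isInvertible_pullback (PicF.XTmap f g) hE
  have hcl' : mk _ hF' * mk M₁ hM₁ = mk _ hE' := by
    have e1 : mk _ hF' = pull (PicF.XTmap f (i ≫ h)) (mk F hF) := (pull_mk _ hF).symm
    have e2 : mk _ hE' = pull (PicF.XTmap f g) (mk E hE) := (pull_mk _ hE).symm
    rw [hM₁cl, e1, e2, XTmap_comp, pull_comp, hcl, map_mul, map_mul, pull_gcl, ← pull_comp,
      ← XTmap_comp, ← pull_comp, Fga.RigGrp.XTmap_XTproj, pull_comp, hEcl]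
    have h1 : pull i.left β = 1 := hβ
    rw [h1, map_one, mul_one]
    change gcl f x * _ * (gcl f x)⁻¹ = _
    rw [mul_comm (gcl f x), mul_assoc, mul_inv_cancel, mul_one]
  rw [mk_mul_mk, mk_eq_iff] at hcl'
  obtain ⟨φ⟩ := hcl'
  have hv : H1van P T (pb f g E) := hU T g (fun t => hVU t.2)
  -- the pulled back section
  have hI := Picfga.ZeroDiv.isZeroIdeal_pullback γ hE' (Picfga.ZeroDiv.isZeroIdeal_pullback (PicF.XTmap f g) hE he)
  rw [← Scheme.IdealSheafData.comap_comp, hγg] at hI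
  have hγE := isInvertible_pullback γ hE'
  have h1 : mk _ hγE = 1 := by
    have h2 : mk _ hγE = pull γ (pull (PicF.XTmap f g) (mk E hE)) := by rw [pull_mk, pull_mk]
    rw [h2, ← pull_comp, hγg]
    exact hEV
  obtain ⟨e₀, he₀⟩ := exists_isGen_of_eq_one hγE h1
  obtain ⟨σ, hσ⟩ := he₀.exists_eq (pullTop γ (pullTop (PicF.XTmap f g) e))
  have hspan := hI (tp V.1.toScheme) e₀ he₀ σ (by rw [res_refl]; exact hσ)
  have hcyc := exists_cyclic γ hγ hF' hM₁ hs (isEff_secGraph f x) φ hE' hv he₀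
  refine ⟨hcyc, ?_⟩
  rw [hspan, Ideal.span_singleton_le_iff_mem, mem_annI]
  intro m
  exact smul_mem_range γ hγ hF' hM₁ hs (isEff_secGraph f x) φ hv _ he₀ hσ m

include hΘ hw1 hcl in
/-- **The theta divisor pulled back to `X × Z`.** -/
theorem comap_eq [IsReduced Z.left] (hdist : ∀ z : Z.left, Dist f w z)
    (hmem : ∀ (i : Fin n) (z : Z.left), h.left (sec f Z (w i).1 (w i).2 z) ∈ Θ) :
    (Scheme.IdealSheafData.vanishingIdeal Θ).comap h.left =
      ∏ i, HilbD.secGraph f Z (w i).1 (w i).2 := by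
  refine le_antisymm (le_prod _ ?_ fun i => ?_) (le_comap P hF hΘ w hw1 h β hcl)
  · intro i j hij
    rw [← Scheme.IdealSheafData.support_eq_bot_iff, Scheme.IdealSheafData.support_sup, eq_bot_iff]
    rintro y ⟨hyi, hyj⟩
    have hj : y ∈ Set.range (sec f Z (w j).1 (w j).2) := by
      have h2 := Scheme.Hom.support_ker (sec f Z (w j).1 (w j).2)
      have h3 : y ∈ ((sec f Z (w j).1 (w j).2).ker.support : Set (PicF.XT f Z)) := hyj
      rw [h2, (Scheme.Hom.isClosedEmbedding (sec f Z (w j).1 (w j).2)).isClosed_range.closure_eq] at h3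
      exact h3
    obtain ⟨z, rfl⟩ := hj
    have h4 : z ∈ (coinc f (w i) (w j)).support := by
      rw [coinc, Scheme.IdealSheafData.support_comap]
      exact hyi
    rw [mem_support_coinc_iff] at h4
    exact hij (hdist z h4)
  · rw [secGraph_eq_ker, le_ker_iff, ← Scheme.IdealSheafData.comap_comp]
    exact comap_vanishingIdeal_eq_bot _ Θ fun z => hmem i z

include hΘ hw1 hcl in
/-- **The class of the theta divisor pulled back to `X × Z`.** -/
theorem pull_eq [IsReduced Z.left] (hdist : ∀ z : Z.left, Dist f w z)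
    (hmem : ∀ (i : Fin n) (z : Z.left), h.left (sec f Z (w i).1 (w i).2 z) ∈ Θ)
    (ΘL : J.left.Modules) (hΘL : PicF.IsInvertible ΘL)
    (hinv : ClSub.IsInverseOf ΘL (ClSub.idealMod (Scheme.IdealSheafData.vanishingIdeal Θ))) :
    pull h.left (mk ΘL hΘL) = (∏ i, gcl f (w i))⁻¹ := by
  obtain ⟨hD, hDcl⟩ := dcl_prod (fun i => HilbD.secGraph f Z (w i).1 (w i).2)
    (fun i => isEff_secGraph f (w i))
  have hI' := Dix.IdealModCartier.isEffCartierIdeal_of_isInverseOf hinv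
  have h1 : mk ΘL hΘL = (dcl _ hI')⁻¹ := by
    rw [eq_inv_iff_mul_eq_one, dcl, mk_mul_mk, mk_eq_one_iff]
    exact hinv
  rw [h1, map_inv, inv_inj, dcl, pull_mk]
  have h2 := comap_eq P hF hΘ w hw1 h β hcl hdist hmem
  have h3 := Dix.IdealModCartier.pullback_idealMod h.left hI' (by rw [h2]; exact hD)
  rw [h2] at h3
  refine Eq.trans ?_ (hDcl.trans rfl)
  rw [dcl, mk_eq_iff]
  exact h3

end main

end K533.ThetaFam
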