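import Groth.Agent.JacVar.K533.ThetaW
import Groth.Agent.JacVar.K531.GoodPt
import Groth.Agent.JacVar.K531.PowGeom
import Groth.Agent.AbVar.K521.Lam

/-!
# The Mumford class of the theta divisor along the Abel map

`eq_inv`: if `E : J ⟶ J` has class `λ_Θ(α(x), z)` on `C × J` then `E` is the inversion.
-/

set_option autoImplicit false
set_option backward.isDefEq.respectTransparency false
set_option linter.unusedSectionVars false
universe u
open CategoryTheory CategoryTheory.Limits AlgebraicGeometry Opposite TopologicalSpace MonObj MonoidalCategory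
  CartesianMonoidalCategory

namespace K533.ThetaLam

open Groth.Agent Groth.Agent.Grpsch Groth.Agent.Grpsch.PicGrp Groth.Agent.Fga.RigGrp Groth.Agent.Fga.JacSum
open Groth.Agent.Fga.JacAlg Groth.Agent.Picfga.ChiDef Groth.Agent.Fga.JacSurj Groth.Agent.Fdesc.LocGen
open Groth.Agent.Picfga.P1Def Groth.Agent.Picfga.LatH0 Groth.Agent.Picfga.PicGood Groth.Agent.Picfga.SecGraph
open Groth.Agent.Sga7.H732 Groth.Agent.Sga7.H732.Hedge Groth.Agent.Grpsch.Cube K521.Lam
open K914.Curve K914.Cls K914.Points K914.HField K914.Semi K914.Fine K914.PtDrop K533.Cst K533.ThetaFam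
open K533.ThetaLocus K531.Perm K531.Albanese K533.ThetaW

variable {k : Type u} [Field k] {X : Scheme.{u}} {f : X ⟶ Spec (CommRingCat.of k)}
  [IsProper f] [Smooth f] [GeometricallyConnected f] [SmoothOfRelativeDimension 1 f]
  {σ : Spec (CommRingCat.of k) ⟶ X} {hσ : σ ≫ f = 𝟙 (Spec (CommRingCat.of k))}
  {J : Over (Spec (CommRingCat.of k))} [GrpObj J] {ξ : Pic (PicF.XT f J)} (h : IsJac f σ hσ J ξ)

section const

include h in
/-- A point of `J` whose class is constant is constant. -/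
theorem exists_const {Z : Over (Spec (CommRingCat.of k))} (z : Z.left)
    (B : Pic (PicF.XT f (𝟙_ (Over (Spec (CommRingCat.of k)))))) (y : Z ⟶ J)
    (hy : Abel.cls h Z y = norm f σ hσ Z (pull (PicF.XTmap f (toUnit Z)) B)) :
    ∃ b : 𝟙_ (Over (Spec (CommRingCat.of k))) ⟶ J, y = toUnit Z ≫ b := by
  have h1 : IsDeg f 0 (Abel.cls h Z y) := isDeg_pull h y
  have h2 : IsDeg f 0 (pull (PicF.XTmap f (toUnit Z)) B) := by
    intro τ
    have h3 := h1 τ
    rw [hy, K532.Fine.chiAt_norm] at h3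
    exact h3
  have h4 : IsDeg f 0 B := by
    have h5 := (h2.pull (ofHom Z (fsr Z.left z)))
    rw [← pull_comp, ← XTmap_comp] at h5
    have h6 : chiK f (fsr Z.left z ≫ Z.hom)
        (pull (PicF.XTmap f (ofHom Z (fsr Z.left z) ≫ toUnit Z)) B) = chiK f _ 1 + 0 :=
      (isDeg_iff_chiK _ _).1 h5
    change IsDeg f 0 (T := Over.mk (𝟙 (Spec (CommRingCat.of k)))) B
    rw [isDeg_iff_chiK]
    have h7 := chiK_pull f (t' := fsr Z.left z ≫ Z.hom) (t := 𝟙 (Spec (CommRingCat.of k)))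
      (ofHom Z (fsr Z.left z) ≫ toUnit Z) B
    have h8 := chiK_pull f (t' := fsr Z.left z ≫ Z.hom) (t := 𝟙 (Spec (CommRingCat.of k)))
      (ofHom Z (fsr Z.left z) ≫ toUnit Z) 1
    rw [map_one] at h8
    rw [← h7, ← h8]
    exact h6
  obtain ⟨b, hb, -⟩ := h.univ _ (norm f σ hσ _ B) (norm_mem f σ hσ _ B) (deg_iff.2 (isDeg_norm h4))
  refine ⟨b, ?_⟩
  apply Abel.cls_injective h
  rw [hy, Abel.cls_comp, Abel.cls_apply, hb, pull_norm]

end const

theorem g1 {G : Type*} [CommGroup G] (W c1 m c2 s : G) :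
    c2 * c1⁻¹ * s⁻¹ = W⁻¹ * c1⁻¹ * m⁻¹ * (c2 * s⁻¹ * W) * m := by
  apply Additive.ofMul.injective
  simp only [ofMul_mul, ofMul_inv]
  abel

theorem g2 {G : Type*} [CommGroup G] (W c2 s' s : G) : c2 * s⁻¹ * W * (W⁻¹ * s') = c2 * s⁻¹ * s' := by
  apply Additive.ofMul.injective
  simp only [ofMul_mul, ofMul_inv]
  abel

theorem g3 {G : Type*} [CommGroup G] (p q r y : G) : p * r⁻¹ * (q * y⁻¹) = p * q * (r⁻¹ * y⁻¹) := by
  apply Additive.ofMul.injective
  simp only [ofMul_mul, ofMul_inv]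
  abel

theorem isMonHom_of_mul' {G H : Over (Spec (CommRingCat.of k))} [GrpObj G] [GrpObj H] (e : G ⟶ H)
    (he : ∀ (W : Over (Spec (CommRingCat.of k))) (a b : W ⟶ G), (a * b) ≫ e = (a ≫ e) * (b ≫ e)) : IsMonHom e := by
  have h1 := he (G ⊗ G) (fst _ _) (snd _ _)
  have h2 := he (𝟙_ _) η[G] η[G]
  refine ⟨?_, ?_⟩
  · have h3 : (η[G] * η[G] : 𝟙_ (Over (Spec (CommRingCat.of k))) ⟶ G) = η[G] := by
      rw [show (η[G] : 𝟙_ (Over (Spec (CommRingCat.of k))) ⟶ G) = 1 from by simp [Hom.one_def], _root_.mul_one]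
    rw [h3] at h2
    have h4 := mul_eq_left.1 h2.symm
    rw [h4]
    simp [Hom.one_def]
  · rw [Hom.mul_def, Hom.mul_def] at h1
    simpa using h1

section main

variable [IsCommMonObj J] [IsProper J.hom] [GeometricallyIntegral J.hom]
  {ψ : (ModFun.PicDeg f 0).Hom ⊤ J} (hψ : CompatCl f σ hσ ψ ξ)
  {α : Over.mk f ⟶ J} (hα : ∀ (T : Over (Spec (CommRingCat.of k))) (z : Pt f T),
      Abel.cls h T (Abel.ptHom z ≫ α) = acl f σ hσ z)
  {N : X.Modules} (hN : PicF.IsInvertible N) {n : ℕ} (hn : chiK f (𝟙 (Spec (CommRingCat.of k))) 1 + n = 1)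
  (hNd : dK f (𝟙 (Spec (CommRingCat.of k))) (cst f (Over.mk (𝟙 _)) (mk N hN)) = n - 1)
  {ΘL : J.left.Modules} (hΘ : Jac.IsThetaLB f 0 ψ N ΘL)
  {E : J ⟶ J} (hE : pull (PicF.XTmap f E) ξ =
    lam (mk ΘL hΘ.1) (Abel.ptHom (xx f J) ≫ α) (prZ f J))

omit [IsCommMonObj J] [IsProper J.hom] [GeometricallyIntegral J.hom] [IsProper f] [Smooth f] [GeometricallyConnected f]
  [SmoothOfRelativeDimension 1 f] [GrpObj J] in
/-- The morphism `X × T' ⟶ X × T`. -/
theorem exists_map {T T' : Over (Spec (CommRingCat.of k))} (g : T' ⟶ T) :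
    ∃ m : XZ f T' ⟶ XZ f T, m.left = PicF.XTmap f g ∧ m ≫ prZ f T = prZ f T' ≫ g ∧
      (xx f T).comp m = xx f T' := by
  refine ⟨Over.homMk (PicF.XTmap f g) ?_, rfl, ?_, ?_⟩
  · change PicF.XTmap f g ≫ PicF.XTproj f T ≫ T.hom = PicF.XTproj f T' ≫ T'.hom
    rw [← Category.assoc, XTmap_XTproj, Category.assoc, Over.w g]
  · ext1
    exact XTmap_XTproj f g
  · exact Subtype.ext (XTmap_fst f g)

include hE in
omit [IsCommMonObj J] [IsProper J.hom] [GeometricallyIntegral J.hom] in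
theorem cls_comp_E {T : Over (Spec (CommRingCat.of k))} (g : T ⟶ J) :
    Abel.cls h T (g ≫ E) = lam (mk ΘL hΘ.1) (Abel.ptHom (xx f T) ≫ α) (prZ f T ≫ g) := by
  obtain ⟨m, hm, h1, h2⟩ := exists_map (f := f) g
  rw [Abel.cls_comp, Abel.cls_apply, hE, ← hm]
  have h3 := lam_comp (mk ΘL hΘ.1) m (Abel.ptHom (xx f J) ≫ α) (prZ f J)
  refine h3.trans ?_
  rw [h1]
  congr 1
  rw [← Category.assoc]
  congr 1
  exact congrArg Abel.ptHom h2

include h hE in
omit [IsCommMonObj J] in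
theorem mul_comp_E {T : Over (Spec (CommRingCat.of k))} (a b : T ⟶ J) : (a * b) ≫ E = (a ≫ E) * (b ≫ E) := by
  apply Abel.cls_injective h
  rw [map_mul, cls_comp_E h hΘ hE, cls_comp_E h hΘ hE, cls_comp_E h hΘ hE, MonObj.comp_mul, lam_mul_right]

include hψ hα hn hNd hE in
/-- **The Mumford class of theta along the Abel map is the inverse of the universal class.** -/
theorem eq_inv (hdim : topologicalKrullDim X = 1) : E = (𝟙 J)⁻¹ := by
  have hX : Curve.IsSmoothProperCurve k X f := K532.Base.isSmoothProperCurve f hdim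
  have hGI : GeometricallyIntegral f := K532.Base.geometricallyIntegral f
  have hn' : ∀ (K : Type u) [Field K] (t : Spec (CommRingCat.of K) ⟶ Spec (CommRingCat.of k)),
      chiK f t 1 + n = 1 := by
    intro K _ t
    have h8 := chiK_pull f (toPt t) 1
    rw [map_one] at h8
    rw [h8, hn]
  obtain ⟨P⟩ := Picfga.CurveP1.exists_p1Data hX
  obtain ⟨Z₀, x, hZ₀, _, _, _, _⟩ := K531.PowGeom.exists_pow f n
  obtain ⟨W, ⟨z₀, hz₀⟩, hWg, hWd⟩ := K531.GoodPt.exists_open hdim P σ hσ n hn' hZ₀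
  have hsurj := K531.SurjSum.surjective_sumHom h hα hX (n := n)
    (fun K _ t => by rw [hn' K t]; exact one_pos) hZ₀
  let Z : Over (Spec (CommRingCat.of k)) := ThetaComap.opn Z₀ W
  let io : Z ⟶ Z₀ := ThetaComap.opnι Z₀ W
  let w : Fin n → Pt f Z := fun i => (x i).comp io
  have hZr : IsReduced Z.left := inferInstanceAs (IsReduced W.toScheme)
  have hgood : ∀ z : Z.left, GoodCl P Z (∏ i, gcl f (w i))⁻¹ z := by
    intro z
    have h1 := (goodCl_pull_iff P io (∏ i, gcl f (x i))⁻¹ z).2 (hWg _ z.2)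
    rw [map_inv, map_prod] at h1
    have h2 : ∏ i, pull (PicF.XTmap f io) (gcl f (x i)) = ∏ i, gcl f (w i) :=
      Finset.prod_congr rfl fun i _ => pull_gcl f (x i) io
    rwa [h2] at h1
  have hdist : ∀ z : Z.left, Dist f w z := fun z => (dist_comp_iff f io x z).2 (hWd _ z.2)
  -- the morphism `y`
  obtain ⟨y, hy, -⟩ := h.univ Z (norm f σ hσ Z (yc hσ (mk N hN) w)) (norm_mem f σ hσ _ _)
    (deg_iff.2 (isDeg_norm (isDeg_yc w hn hNd)))
  have hy' : Abel.cls h Z y = norm f σ hσ Z (yc hσ (mk N hN) w) := hy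
  have key := pull_theta h hψ hα hN hn w hy' P hdist hgood hΘ
  -- the class of `y ≫ E`
  let θ : Pic J.left := mk ΘL hΘ.1
  let αθ : Pic X := pull α.left θ
  have e1 : Abel.cls h Z (y ≫ E) = (∏ i, gcl f (w i))⁻¹ * (cst f Z αθ)⁻¹ *
      (pull (PicF.XTproj f Z) (pull y.left θ))⁻¹ := by
    rw [cls_comp_E h hΘ hE, lam]
    have h1 : pl (hh α y) θ = (∏ i, gcl f (w i))⁻¹ := key
    have h2 : pl (Abel.ptHom (xx f Z) ≫ α) θ = cst f Z αθ := by
      exact pull_comp (pullback.fst f Z.hom) α.left θ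
    have h3 : pl (prZ f Z ≫ y) θ = pull (PicF.XTproj f Z) (pull y.left θ) := by
      exact pull_comp (PicF.XTproj f Z) y.left θ
    rw [← h1, ← h2, ← h3]
  let A : Pic (PicF.XT f (𝟙_ (Over (Spec (CommRingCat.of k))))) :=
    cst f _ (om f * (mk N hN)⁻¹ * αθ⁻¹) * (gcl f (Pt.ofSection hσ _))⁻¹
  have e2 : Abel.cls h Z ((y ≫ E) * y) = norm f σ hσ Z (pull (PicF.XTmap f (toUnit Z)) A) := by
    have h1 : Abel.cls h Z (y ≫ E) = norm f σ hσ Z (Abel.cls h Z (y ≫ E)) :=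
      (norm_of_mem _ _ _ (Abel.cls_mem h _)).symm
    rw [map_mul, h1, e1, hy', ← map_mul, norm_eq_iff]
    refine ⟨pull y.left θ, ?_⟩
    simp only [A]
    rw [map_mul, pull_cst, map_inv, pull_gcl, Pt.ofSection_comp, yc, map_mul (cst f Z), map_inv (cst f Z)]
    exact g1 _ _ _ _ _
  obtain ⟨a, ha⟩ := exists_const h (Z := Z) ⟨z₀, hz₀⟩ A _ e2
  -- the sum
  let B : Pic (PicF.XT f (𝟙_ (Over (Spec (CommRingCat.of k))))) :=
    cst f _ (om f * (mk N hN)⁻¹) * (gcl f (Pt.ofSection hσ _))⁻¹ * (gcl f (Pt.ofSection hσ _)) ^ n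
  have e3 : Abel.cls h Z (y * K531.SumEq.sumHom α w) = norm f σ hσ Z (pull (PicF.XTmap f (toUnit Z)) B) := by
    rw [map_mul, hy', K531.SurjSum.cls_sumHom h hα w]
    have h1 : ∏ i, acl f σ hσ (w i) = norm f σ hσ Z (∏ i, ((gcl f (w i))⁻¹ * gcl f (Pt.ofSection hσ Z))) := by
      rw [map_prod]
      rfl
    rw [h1, ← map_mul]
    congr 1
    simp only [B]
    rw [map_mul, map_mul, pull_cst, map_inv, map_pow, pull_gcl, Pt.ofSection_comp, yc, Finset.prod_mul_distrib,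
      Finset.prod_const, Finset.card_univ, Fintype.card_fin, Finset.prod_inv_distrib]
    exact g2 _ _ _ _
  obtain ⟨b, hb⟩ := exists_const h (Z := Z) ⟨z₀, hz₀⟩ B _ e3
  have hEm : IsMonHom E := isMonHom_of_mul' E fun W a b => mul_comp_E h hΘ hE a b
  -- `E' = E * 𝟙`
  have e4 : K531.SumEq.sumHom α w ≫ (E * 𝟙 J) = toUnit Z ≫ ((b ≫ E) * b * a⁻¹) := by
    have h1 : K531.SumEq.sumHom α w = (toUnit Z ≫ b) * y⁻¹ := by
      rw [← hb, mul_comm y, mul_inv_cancel_right]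
    have h2 : (y ≫ E)⁻¹ * y⁻¹ = toUnit Z ≫ a⁻¹ := by
      rw [GrpObj.comp_inv, ← ha, mul_inv_rev, mul_comm]
    rw [MonObj.comp_mul, Category.comp_id, h1, MonObj.mul_comp, GrpObj.inv_comp, Category.assoc]
    rw [MonObj.comp_mul, MonObj.comp_mul, ← h2]
    exact g3 _ _ _ _
  -- density
  have e5 : E * 𝟙 J = toUnit J ≫ ((b ≫ E) * b * a⁻¹) := by
    have hsum : K531.SumEq.sumHom α w = io ≫ K531.SumEq.sumHom α x := (K531.SumEq.comp_sumHom α io x).symm
    have hdom : IsDominant (K531.SumEq.sumHom α w).left := by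
      rw [hsum]
      change IsDominant (W.ι ≫ (K531.SumEq.sumHom α x).left)
      have h1 : IsDominant W.ι := ⟨by
        rw [DenseRange, Scheme.Opens.range_ι]
        exact W.isOpen.dense ⟨z₀, hz₀⟩⟩
      infer_instance
    have hJr : IsReduced J.left := by
      have h1 : IsIntegral J.left := GeometricallyIntegral.isIntegral_of_subsingleton J.hom
      infer_instance
    ext1
    refine ext_of_isDominant_of_isSeparated J.hom ?_ (K531.SumEq.sumHom α w).left ?_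
    · rw [Over.w, Over.w]
    · have h3 : K531.SumEq.sumHom α w ≫ toUnit J = toUnit Z := Subsingleton.elim _ _
      have h4 : K531.SumEq.sumHom α w ≫ (E * 𝟙 J) =
          K531.SumEq.sumHom α w ≫ toUnit J ≫ ((b ≫ E) * b * a⁻¹) := by
        rw [e4, ← Category.assoc (K531.SumEq.sumHom α w), h3]
      exact congrArg (fun g => Over.Hom.left g) h4
  have e6 : (b ≫ E) * b * a⁻¹ = (1 : 𝟙_ (Over (Spec (CommRingCat.of k))) ⟶ J) := by
    have h1 : (1 : 𝟙_ (Over (Spec (CommRingCat.of k))) ⟶ J) ≫ (E * 𝟙 J) = 1 := by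
      rw [MonObj.comp_mul, Category.comp_id, MonObj.one_comp, _root_.one_mul]
    rw [e5, ← Category.assoc] at h1
    have h3 : (1 : 𝟙_ (Over (Spec (CommRingCat.of k))) ⟶ J) ≫ toUnit J = 𝟙 _ := Subsingleton.elim _ _
    rwa [h3, Category.id_comp] at h1
  rw [e6, MonObj.comp_one] at e5
  exact eq_inv_of_mul_eq_one_left e5

end main

end K533.ThetaLam
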