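import Groth.Agent.JacVar.K533.Cst
import Groth.Agent.JacVar.K533.ThetaFam
import Groth.Agent.JacVar.K532.Setup
import Groth.Agent.Jac.K914.PtDrop
import Groth.Agent.JacVar.K531.Albanese
import Groth.Agent.JacVar.K531.SurjSum

/-!
# The theta locus of a Jacobian pulled back to `C × Z`
-/

set_option autoImplicit false
set_option backward.isDefEq.respectTransparency false
set_option linter.unusedSectionVars false
universe u
open CategoryTheory CategoryTheory.Limits AlgebraicGeometry Opposite TopologicalSpace MonObj MonoidalCategory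
  CartesianMonoidalCategory

namespace K533.ThetaLocus

open Groth.Agent Groth.Agent.Grpsch Groth.Agent.Grpsch.PicGrp Groth.Agent.Fga.RigGrp Groth.Agent.Fga.JacSum
open Groth.Agent.Fga.JacAlg Groth.Agent.Picfga.ChiDef Groth.Agent.Fga.JacSurj Groth.Agent.Fdesc.LocGen
open Groth.Agent.Picfga.P1Def Groth.Agent.Picfga.LatH0 Groth.Agent.Picfga.PicGood Groth.Agent.Picfga.SecGraph
open Groth.Agent.Sga7.H732 Groth.Agent.Sga7.H732.Hedge Groth.Agent.Sga7.H732.Abel
open K914.Curve K914.Cls K914.Points K914.HField K914.Semi K914.Fine K533.Cst K533.ThetaFam K531.Perm K531.Albanese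

variable {k : Type u} [Field k] {X : Scheme.{u}} {f : X ⟶ Spec (CommRingCat.of k)}
  [IsProper f] [Smooth f] [GeometricallyConnected f] [SmoothOfRelativeDimension 1 f]
  {σ : Spec (CommRingCat.of k) ⟶ X} {hσ : σ ≫ f = 𝟙 (Spec (CommRingCat.of k))}
  {J : Over (Spec (CommRingCat.of k))} [GrpObj J] {ψ : (ModFun.PicDeg f 0).Hom ⊤ J}
  {ξ : Pic (PicF.XT f J)}

/-- The classifying map in terms of the universal class. -/
def CompatCl (f : X ⟶ Spec (CommRingCat.of k)) [IsProper f] [Smooth f] [GeometricallyConnected f]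
    [SmoothOfRelativeDimension 1 f] (σ : Spec (CommRingCat.of k) ⟶ X) (hσ : σ ≫ f = 𝟙 (Spec (CommRingCat.of k)))
    {J : Over (Spec (CommRingCat.of k))} (ψ : (ModFun.PicDeg f 0).Hom ⊤ J) (ξ : Pic (PicF.XT f J)) : Prop :=
  ∀ (T : Over (Spec (CommRingCat.of k))) (c : Pic (PicF.XT f T)) (hc : IsDeg f 0 c),
    pull (PicF.XTmap f (psiCl ψ c hc)) ξ = norm f σ hσ T c

omit [GrpObj J] in
theorem compatCl_of_compat {hdim : topologicalKrullDim X = 1} (h : K532.Setup.Compat f hdim σ hσ J ψ ξ) :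
    CompatCl f σ hσ ψ ξ := by
  intro T c hc
  have h1 := h T (exists_mk c).choose trivial
    ((ok_iff (exists_mk c).choose_spec.choose).2 ((exists_mk c).choose_spec.choose_spec ▸ hc))
  refine h1.trans ?_
  congr 1
  exact (exists_mk c).choose_spec.choose_spec.symm

theorem norm_field {K : Type u} [Field K] (t : Spec (CommRingCat.of K) ⟶ Spec (CommRingCat.of k))
    (c : Pic (PicF.XT f (Over.mk t))) : norm f σ hσ (Over.mk t) c = c := by
  refine norm_of_mem _ _ _ ?_
  rw [mem_Rg]
  exact pic_spec_local K _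

section jump

variable (h : IsJac f σ hσ J ξ) (hψ : CompatCl f σ hσ ψ ξ) {N : X.Modules} (hN : PicF.IsInvertible N)

include h hψ in
theorem psiCl_eq {K : Type u} [Field K] {t : Spec (CommRingCat.of K) ⟶ Spec (CommRingCat.of k)}
    {g : Over.mk t ⟶ J} {c : Pic (PicF.XT f (Over.mk t))} (hg : pull (PicF.XTmap f g) ξ = c) (hc : IsDeg f 0 c) :
    psiCl ψ c hc = g := by
  apply cls_injective h
  rw [cls_apply, cls_apply, hψ, hg, norm_field]

include h in
theorem isDeg_pull {T : Over (Spec (CommRingCat.of k))} (g : T ⟶ J) : IsDeg f 0 (pull (PicF.XTmap f g) ξ) :=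
  (deg_iff.1 h.deg).pull g

omit [GrpObj J] in
theorem hK_tensor {K : Type u} [Field K] (t : Spec (CommRingCat.of K) ⟶ Spec (CommRingCat.of k))
    {L : (PicF.XT f (Over.mk t)).Modules} (hL : PicF.IsInvertible L) :
    ¬ Subsingleton (Coh.HH (PicF.XT f (Over.mk t))
        (CohB1.tensorMod L ((Scheme.Modules.pullback (pullback.fst f t)).obj N)) 0) ↔
      0 < hK f t 0 (mk L hL * cst f (Over.mk t) (mk N hN)) := by
  let _ := overK f t
  have h1 := K532.CurvePic.nontrivial_iff (isCurve f t) (isInvertible_tensorMod hL (isInvertible_pullback (pullback.fst f t) hN)) 0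
  rw [not_subsingleton_iff_nontrivial, h1]
  have h2 : mk L hL * cst f (Over.mk t) (mk N hN) = mk _ (isInvertible_tensorMod hL (isInvertible_pullback (pullback.fst f t) hN)) := by
    rw [cst, pull_mk, mk_mul_mk]
    rfl
  rw [h2]
  rfl

include h hψ in
theorem mem_jumpLocus {K : Type u} [Field K] [IsAlgClosed K] {t : Spec (CommRingCat.of K) ⟶ Spec (CommRingCat.of k)}
    (g : Over.mk t ⟶ J)
    (hpos : 0 < hK f t 0 (pull (PicF.XTmap f g) ξ * cst f (Over.mk t) (mk N hN))) (p : Spec (CommRingCat.of K)) :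
    g.left p ∈ Jac.jumpLocus f 0 ψ N := by
  have hc := isDeg_pull h g
  obtain ⟨L, hL, hLc⟩ := exists_mk (pull (PicF.XTmap f g) ξ)
  rw [hLc] at hc hpos
  have hok := (ok_iff hL).2 hc
  refine ⟨K, inferInstance, inferInstance, t, trivial, L, hok, (hK_tensor hN t hL).2 hpos, p, ?_⟩
  rw [app_eq ψ trivial hok _ hc rfl, psiCl_eq h hψ hLc hc]

omit [GrpObj J] in
theorem exists_of_mem_jumpLocus {z : J.left} (hz : z ∈ Jac.jumpLocus f 0 ψ N) (hψ : CompatCl f σ hσ ψ ξ) :
    ∃ (K : Type u) (_ : Field K) (_ : IsAlgClosed K) (t : Spec (CommRingCat.of K) ⟶ Spec (CommRingCat.of k))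
      (g : Over.mk t ⟶ J) (p : Spec (CommRingCat.of K)), g.left p = z ∧
      0 < hK f t 0 (pull (PicF.XTmap f g) ξ * cst f (Over.mk t) (mk N hN)) := by
  obtain ⟨K, _, _, t, hP, L, hL, hQ, p, hp⟩ := hz
  refine ⟨K, inferInstance, inferInstance, t, _, p, hp, ?_⟩
  rw [app_eq' ψ hP hL, hψ, norm_field]
  exact (hK_tensor hN t _).1 hQ

include hψ in
omit [GrpObj J] in
/-- The theta locus is contained in the closure of the locus where `H¹` of the Serre dual family does not vanish. -/
theorem theta_subset (P : P1Data f) {F : (PicF.XT f J).Modules} (hF : PicF.IsInvertible F)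
    (hFc : mk F hF = cst f J (om f * (mk N hN)⁻¹) * ξ⁻¹) :
    Jac.thetaLocus f 0 ψ N ⊆ closure {z | ¬ H1van P (ptOver J z) (pb f (ptHom J z) F)} := by
  refine closure_mono fun z hz => ?_
  obtain ⟨K, _, _, t, g, p, rfl, hpos⟩ := exists_of_mem_jumpLocus hN hz hψ
  change ¬ _
  rw [h1van_iff_hK f P g p F hF, hFc, map_mul, pull_cst, map_inv, serre, map_mul, map_inv, cst_om]
  have e : omK f t * (omK f t * (cst f (Over.mk t) (mk N hN))⁻¹ * (pull (PicF.XTmap f g) ξ)⁻¹)⁻¹ =
      pull (PicF.XTmap f g) ξ * cst f (Over.mk t) (mk N hN) := by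
    generalize omK f t = o
    generalize cst f (Over.mk t) (mk N hN) = c
    generalize pull (PicF.XTmap f g) ξ = x
    apply Additive.ofMul.injective
    simp only [ofMul_mul, ofMul_inv]
    abel
  rw [e]
  exact hpos.ne'

end jump

end K533.ThetaLocus
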