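import Groth.Agent.JacVar.K533.ThetaLocus

/-!
# The theta line bundle pulled back to `C × Z` along `(x, z) ↦ α(x) y(z)`

`pull_theta`: for points `w_i` in general position on `Z` and `y : Z ⟶ J` with class `ω N⁻¹ (σ - ∑ w_i)`, the class of
`O(Θ_N)` pulled back along `(x, z) ↦ α(x) y(z)` is `O(∑ w_i)`.
-/

set_option autoImplicit false
set_option backward.isDefEq.respectTransparency false
set_option linter.unusedSectionVars false
universe u
open CategoryTheory CategoryTheory.Limits AlgebraicGeometry Opposite TopologicalSpace MonObj MonoidalCategory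
  CartesianMonoidalCategory

namespace K533.ThetaW

open Groth.Agent Groth.Agent.Grpsch Groth.Agent.Grpsch.PicGrp Groth.Agent.Fga.RigGrp Groth.Agent.Fga.JacSum
open Groth.Agent.Fga.JacAlg Groth.Agent.Picfga.ChiDef Groth.Agent.Fga.JacSurj Groth.Agent.Fdesc.LocGen
open Groth.Agent.Picfga.P1Def Groth.Agent.Picfga.LatH0 Groth.Agent.Picfga.PicGood Groth.Agent.Picfga.SecGraph
open Groth.Agent.Sga7.H732 Groth.Agent.Sga7.H732.Hedge
open K914.Curve K914.Cls K914.Points K914.HField K914.Semi K914.Fine K914.PtDrop K533.Cst K533.ThetaFam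
open K533.ThetaLocus K531.Perm K531.Albanese

variable {k : Type u} [Field k] {X : Scheme.{u}} {f : X ⟶ Spec (CommRingCat.of k)}
  [IsProper f] [Smooth f] [GeometricallyConnected f] [SmoothOfRelativeDimension 1 f]
  {σ : Spec (CommRingCat.of k) ⟶ X} {hσ : σ ≫ f = 𝟙 (Spec (CommRingCat.of k))}

/-- The point `(w(z), z)`. -/
noncomputable def sw {Z : Over (Spec (CommRingCat.of k))} (w : Pt f Z) : Z ⟶ XZ f Z :=
  Over.homMk (sec f Z w.1 w.2) (by
    change sec f Z w.1 w.2 ≫ PicF.XTproj f Z ≫ Z.hom = Z.hom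
    rw [← Category.assoc, sec_proj, Category.id_comp])

omit [IsProper f] [Smooth f] [GeometricallyConnected f] [SmoothOfRelativeDimension 1 f] in
theorem sw_prZ {Z : Over (Spec (CommRingCat.of k))} (w : Pt f Z) : sw w ≫ prZ f Z = 𝟙 Z := by
  ext1
  exact sec_proj f w.1 w.2

omit [IsProper f] [Smooth f] [GeometricallyConnected f] [SmoothOfRelativeDimension 1 f] in
theorem xx_comp_sw {Z : Over (Spec (CommRingCat.of k))} (w : Pt f Z) : (xx f Z).comp (sw w) = w :=
  Subtype.ext (sec_fst f w.1 w.2)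

variable (hσ) in
/-- The class `ω N⁻¹ (σ - ∑ w_i)`. -/
noncomputable def yc {Z : Over (Spec (CommRingCat.of k))} (c : Pic X) {n : ℕ} (w : Fin n → Pt f Z) :
    Pic (PicF.XT f Z) :=
  cst f Z (om f * c⁻¹) * (gcl f (Pt.ofSection hσ Z))⁻¹ * ∏ i, gcl f (w i)

theorem pull_yc {Z Z' : Over (Spec (CommRingCat.of k))} (g : Z' ⟶ Z) (c : Pic X) {n : ℕ} (w : Fin n → Pt f Z) :
    pull (PicF.XTmap f g) (yc hσ c w) = yc hσ c (fun i => (w i).comp g) := by
  rw [yc, yc, map_mul, map_mul, pull_cst, map_inv, pull_gcl, Pt.ofSection_comp, map_prod]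
  congr 1
  exact Finset.prod_congr rfl fun i _ => pull_gcl f (w i) g

theorem isDeg_prod_gcl {T : Over (Spec (CommRingCat.of k))} {n : ℕ} (w : Fin n → Pt f T) :
    IsDeg f (-n) (∏ i, gcl f (w i)) := by
  induction n with
  | zero => simpa using isDeg_one (f := f) (T := T)
  | succ n ih =>
    rw [Fin.prod_univ_succ]
    exact ((isDeg_gcl (w 0)).mul (ih fun i => w i.succ)).congr (by push_cast; ring) rfl

theorem isDeg_yc {Z : Over (Spec (CommRingCat.of k))} {c : Pic X} {n : ℕ} (w : Fin n → Pt f Z)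
    (hn : chiK f (𝟙 _) 1 + n = 1) (hc : dK f (𝟙 _) (cst f (Over.mk (𝟙 _)) c) = n - 1) :
    IsDeg f 0 (yc hσ c w) := by
  have h1 : IsDeg f ((n : ℤ) - 1) (cst f Z c) := isDeg_cst f hc Z
  rw [yc, map_mul, map_inv]
  refine ((((isDeg_om f Z).mul h1.inv).mul (isDeg_gcl (Pt.ofSection hσ Z)).inv).mul (isDeg_prod_gcl w)).congr ?_ rfl
  linarith

section main

variable {J : Over (Spec (CommRingCat.of k))} [GrpObj J] [IsCommMonObj J] {ψ : (ModFun.PicDeg f 0).Hom ⊤ J}
  {ξ : Pic (PicF.XT f J)} (h : IsJac f σ hσ J ξ) (hψ : CompatCl f σ hσ ψ ξ)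
  {α : Over.mk f ⟶ J} (hα : ∀ (T : Over (Spec (CommRingCat.of k))) (z : Pt f T),
      Abel.cls h T (Abel.ptHom z ≫ α) = acl f σ hσ z)
  {N : X.Modules} (hN : PicF.IsInvertible N) {n : ℕ} (hn : chiK f (𝟙 (Spec (CommRingCat.of k))) 1 + n = 1)
  {Z : Over (Spec (CommRingCat.of k))} (w : Fin n → Pt f Z) {y : Z ⟶ J}
  (hy : Abel.cls h Z y = norm f σ hσ Z (yc hσ (mk N hN) w))

/-- The morphism `(x, z) ↦ α(x) y(z)`. -/
noncomputable abbrev hh (α : Over.mk f ⟶ J) (y : Z ⟶ J) : XZ f Z ⟶ J :=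
  (Abel.ptHom (xx f Z) ≫ α) * (prZ f Z ≫ y)

include hα hy in
omit [IsCommMonObj J] in
theorem cls_hh : Abel.cls h (XZ f Z) (hh α y) =
    acl f σ hσ (xx f Z) * norm f σ hσ (XZ f Z) (yc hσ (mk N hN) (fun i => (w i).comp (prZ f Z))) := by
  rw [map_mul, hα, Abel.cls_comp, hy, pull_norm, pull_yc]

include hα hy in
omit [IsCommMonObj J] in
theorem hcl {F : (PicF.XT f J).Modules} (hF : PicF.IsInvertible F)
    (hFc : mk F hF = cst f J (om f * (mk N hN)⁻¹) * ξ⁻¹) :
    ∃ β : Pic (XZ f Z).left, pull (PicF.XTmap f (hh α y)) (mk F hF) =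
      gcl f (xx f Z) * pull (PicF.XTmap f (prZ f Z)) (∏ i, gcl f (w i))⁻¹ *
        pull (PicF.XTproj f (XZ f Z)) β := by
  have h1 := cls_hh h hα hN w hy
  rw [Abel.cls_apply] at h1
  rw [hFc, map_mul, pull_cst, map_inv, h1, acl, norm_apply, norm_apply]
  refine ⟨(pull (PicF.secT f σ hσ (XZ f Z)) ((gcl f (xx f Z))⁻¹ * gcl f (Pt.ofSection hσ (XZ f Z)))) *
    pull (PicF.secT f σ hσ (XZ f Z)) (yc hσ (mk N hN) fun i => (w i).comp (prZ f Z)), ?_⟩
  rw [map_mul (pull (PicF.XTproj f (XZ f Z)))]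
  generalize pull (PicF.XTproj f (XZ f Z)) (pull (PicF.secT f σ hσ (XZ f Z)) ((gcl f (xx f Z))⁻¹ *
    gcl f (Pt.ofSection hσ (XZ f Z)))) = m1
  generalize pull (PicF.XTproj f (XZ f Z)) (pull (PicF.secT f σ hσ (XZ f Z))
    (yc hσ (mk N hN) fun i => (w i).comp (prZ f Z))) = m2
  rw [map_inv, map_prod, yc]
  have h2 : ∏ i, pull (PicF.XTmap f (prZ f Z)) (gcl f (w i)) = ∏ i, gcl f ((w i).comp (prZ f Z)) :=
    Finset.prod_congr rfl fun i _ => pull_gcl f (w i) (prZ f Z)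
  rw [h2]
  generalize ∏ i, gcl f ((w i).comp (prZ f Z)) = W
  generalize cst f (XZ f Z) (om f * (mk N hN)⁻¹) = c
  generalize gcl f (Pt.ofSection hσ (XZ f Z)) = s
  generalize gcl f (xx f Z) = x
  apply Additive.ofMul.injective
  simp only [ofMul_mul, ofMul_inv, ofMul_div]
  abel

include h hψ hα hy hn in
omit [IsCommMonObj J] in
theorem hmem (i : Fin n) (z : Z.left) :
    (hh α y).left (sec f Z (w i).1 (w i).2 z) ∈ Jac.thetaLocus f 0 ψ N := by
  apply subset_closure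
  let K := AlgebraicClosure (Z.left.residueField z)
  let φ : CommRingCat.of (Z.left.residueField z) ⟶ CommRingCat.of K :=
    CommRingCat.ofHom (algebraMap (Z.left.residueField z) K)
  let t₀ : Spec (CommRingCat.of K) ⟶ Z.left := Spec.map φ ≫ Z.left.fromSpecResidueField z
  let t : Spec (CommRingCat.of K) ⟶ Spec (CommRingCat.of k) := t₀ ≫ Z.hom
  let g₀ : Over.mk t ⟶ Z := Over.homMk t₀ rfl
  let p : Spec (CommRingCat.of K) := IsLocalRing.closedPoint K
  have hp : g₀.left p = z := by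
    change (Spec.map φ ≫ Z.left.fromSpecResidueField z) p = z
    rw [Scheme.Hom.comp_apply]
    exact Scheme.fromSpecResidueField_apply z _
  let g : Over.mk t ⟶ J := g₀ ≫ sw (w i) ≫ hh α y
  have hgp : g.left p = (hh α y).left (sec f Z (w i).1 (w i).2 z) := by
    have e0 : g.left p = (hh α y).left (sec f Z (w i).1 (w i).2 (g₀.left p)) := rfl
    exact e0.trans (congrArg (fun q => (hh α y).left (sec f Z (w i).1 (w i).2 q)) hp)
  rw [← hgp]
  refine mem_jumpLocus h hψ hN g ?_ p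
  have hg : pull (PicF.XTmap f g) ξ = (gcl f ((w i).comp g₀))⁻¹ * gcl f (Pt.ofSection hσ (Over.mk t)) *
      yc hσ (mk N hN) (fun j => (w j).comp g₀) := by
    have h1 : g = (Abel.ptHom ((w i).comp g₀) ≫ α) * (g₀ ≫ y) := by
      have h2 : sw (w i) ≫ hh α y = (Abel.ptHom (w i) ≫ α) * y := by
        rw [hh, MonObj.comp_mul, ← Category.assoc, ← Category.assoc, sw_prZ, Category.id_comp]
        congr 2
        ext1
        exact sec_fst f (w i).1 (w i).2
      change g₀ ≫ sw (w i) ≫ hh α y = _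
      rw [h2, MonObj.comp_mul]
      rfl
    rw [← Abel.cls_apply h, h1, map_mul, hα, Abel.cls_comp, hy, pull_norm, pull_yc, norm_field, acl_field]
  rw [hg, yc, map_mul, map_inv, cst_om]
  have h3 : (gcl f ((w i).comp g₀))⁻¹ * gcl f (Pt.ofSection hσ (Over.mk t)) *
      (omK f t * (cst f (Over.mk t) (mk N hN))⁻¹ * (gcl f (Pt.ofSection hσ (Over.mk t)))⁻¹ *
        ∏ j, gcl f ((w j).comp g₀)) * cst f (Over.mk t) (mk N hN) =
      omK f t * (gcl f ((w i).comp g₀) * ∏ j, (gcl f ((w j).comp g₀))⁻¹)⁻¹ := by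
    rw [Finset.prod_inv_distrib]
    generalize ∏ j, gcl f ((w j).comp g₀) = W
    generalize gcl f ((w i).comp g₀) = a
    generalize gcl f (Pt.ofSection hσ (Over.mk t)) = s
    generalize cst f (Over.mk t) (mk N hN) = c
    generalize omK f t = o
    apply Additive.ofMul.injective
    simp only [ofMul_mul, ofMul_inv]
    abel
  rw [h3, ← serre]
  have h4 : gcl f ((w i).comp g₀) * ∏ j, (gcl f ((w j).comp g₀))⁻¹ =
      ∏ j ∈ Finset.univ.erase i, (gcl f ((w j).comp g₀))⁻¹ := by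
    rw [← Finset.mul_prod_erase Finset.univ _ (Finset.mem_univ i), mul_inv_cancel_left]
  have h5 : 0 < hK f t 0 (gcl f ((w i).comp g₀) * ∏ j, (gcl f ((w j).comp g₀))⁻¹) := by
    rw [h4]
    exact hK_prod_pos f t _ _ fun j _ => hK_gcl_inv_pos f t _
  have h6 := rr f t (gcl f ((w i).comp g₀) * ∏ j, (gcl f ((w j).comp g₀))⁻¹)
  rw [dK_mul, dK_gcl, dK_sum] at h6
  have h7 : chiK f t 1 = chiK f (𝟙 _) 1 := by
    have h8 := chiK_pull f (toPt t) 1
    rwa [map_one] at h8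
  rw [h7] at h6
  omega

include h hψ hα hy hn in
omit [IsCommMonObj J] in
/-- **The theta line bundle pulled back along `(x, z) ↦ α(x) y(z)` is `O(∑ w_i)`.** -/
theorem pull_theta (P : P1Data f) [IsReduced Z.left] (hdist : ∀ z : Z.left, Dist f w z)
    (hgood : ∀ z : Z.left, GoodCl P Z (∏ i, gcl f (w i))⁻¹ z)
    {ΘL : J.left.Modules} (hΘ : Jac.IsThetaLB f 0 ψ N ΘL) :
    pull (hh α y).left (mk ΘL hΘ.1) = (∏ i, gcl f (w i))⁻¹ := by
  obtain ⟨F, hF, hFc⟩ := exists_mk (cst f J (om f * (mk N hN)⁻¹) * ξ⁻¹)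
  obtain ⟨β, hβ⟩ := hcl h hα hN w hy hF hFc.symm
  exact pull_eq P hF (Θ := ⟨Jac.thetaLocus f 0 ψ N, isClosed_closure⟩)
    (theta_subset hψ hN P hF hFc.symm) w
    (fun E hE hEc z => (hgood z E hE hEc).1) (hh α y) β hβ hdist
    (fun i z => hmem h hψ hα hN hn w hy i z) ΘL hΘ.1 hΘ.2

end main

end K533.ThetaW
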