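import Groth.Agent.JacVar.K533.Drop
import Groth.Agent.JacVar.K532.CurvePic
import Groth.Agent.JacVar.K532.UnitBase
import Groth.Agent.Fga.ZeroClass
import Groth.Agent.Picfga.ZeroDiv

/-!
# Points and classes of degree zero on a smooth proper curve

For a smooth proper curve `X` over a field `k` with `H⁰(X, O) = k`:
* `io hX P hP`: the class of the ideal of a rational point `P` (the class of `O(-P)`);
* `h0_drop_of_mem`, `exists_drop`: twisting down by a rational point;
* `eq_of_io_eq`: for genus at least one, points with the same class are equal;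
* `exists_h0_eq_zero`: over a separably closed field, for genus at least two, a nontrivial class `c` of degree zero
  admits a rational point `z` with `h⁰(c (-z)⁻¹) = 0`.
-/

set_option autoImplicit false
universe u
open CategoryTheory CategoryTheory.Limits AlgebraicGeometry Opposite TopologicalSpace

namespace K533.TwoPt

open Groth.Agent Groth.Agent.Grpsch.PicGrp Groth.Agent.Fga.JacFactor Groth.Agent.Fdesc.LocGen
open Groth.Agent.Picfga.ZeroDef Groth.Agent.Picfga.ZeroDiv
open K532.CurvePic K533.PtTwist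

variable {k : Type u} [Field k] {X : Scheme.{u}} [X.Over (Spec (CommRingCat.of k))]

theorem isEff (hX : IsCurve k X) (P : Spec (CommRingCat.of k) ⟶ X)
    (hP : P ≫ (X ↘ (Spec (CommRingCat.of k))) = 𝟙 _) : BlowUp.IsEffCartierIdeal P.ker := by
  have := hX.proper
  have := hX.smooth
  have := hX.integral
  have : SmoothOfRelativeDimension 1 (X ↘ (Spec (CommRingCat.of k))) :=
    Picfga.CurveRelDim.smoothOfRelativeDimension_of_topologicalKrullDim_eq k X _ 1
      (by rw [hX.dim]; rfl)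
  exact (Picfga.PtEval.isEff_ker hP).1

/-- The class of the ideal of a rational point. -/
noncomputable def io (hX : IsCurve k X) (P : Spec (CommRingCat.of k) ⟶ X)
    (hP : P ≫ (X ↘ (Spec (CommRingCat.of k))) = 𝟙 _) : Pic X := dcl P.ker (isEff hX P hP)

variable (hX : IsCurve k X)

theorem deg_io (P : Spec (CommRingCat.of k) ⟶ X)
    (hP : P ≫ (X ↘ (Spec (CommRingCat.of k))) = 𝟙 _) : deg k X (io hX P hP) = -1 :=
  K532.UnitBase.dg_ker hX.curve P hP _

/-- A point outside the zero scheme of a section is in the locus where the section generates. -/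
theorem mem_genLocus_of_notMem {M : X.Modules} (hM : PicF.IsInvertible M) (s : Γ(M, ⊤))
    {I : X.IdealSheafData} (hI : IsZeroIdeal M s I) (x : X) (hx : x ∉ I.support) :
    x ∈ CohB1.genLocus M (homOf s) := by
  obtain ⟨U, e, hxU, -, he⟩ := Picfga.ZeroDiv.exists_affine_gen hM x ⊤ trivial
  obtain ⟨a, ha⟩ := he.exists_eq (res M le_top s)
  have h1 := hI U e he a ha
  have h2 := genLocus_inf_eq (homOf s) he (a := a) (by rw [sec_homOf, ha])
  have h3 : x ∈ X.basicOpen a := by
    by_contra h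
    apply hx
    rw [Scheme.IdealSheafData.mem_support_iff_of_mem hxU]
    rw [h1]
    rw [Scheme.zeroLocus_span, Scheme.zeroLocus_singleton]
    exact h
  rw [← h2] at h3
  exact h3.1

/-- Twisting down by a point where a section generates. -/
theorem h0_drop_of_mem {M : X.Modules} (hM : PicF.IsInvertible M) (s : Coh.structureModule X ⟶ M)
    (P : Spec (CommRingCat.of k) ⟶ X) (hP : P ≫ (X ↘ (Spec (CommRingCat.of k))) = 𝟙 _)
    (hs : pt P ∈ CohB1.genLocus M s) :
    h k X 0 (mk M hM * io hX P hP) + 1 = h k X 0 (mk M hM) ∧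
      h k X 1 (mk M hM * io hX P hP) = h k X 1 (mk M hM) := by
  have := hX.proper
  rw [io, dcl, mk_mul_mk, h_mk, h_mk, h_mk, h_mk]
  exact finrank_of_mem_genLocus P hP hM s hs

theorem exists_drop [IsSepClosed k] {c : Pic X} (hc : 0 < h k X 0 c) (W : X.Opens)
    (hW : (W : Set X).Nonempty) :
    ∃ (P : Spec (CommRingCat.of k) ⟶ X) (hP : P ≫ (X ↘ (Spec (CommRingCat.of k))) = 𝟙 _), pt P ∈ W ∧
      h k X 0 (c * io hX P hP) + 1 = h k X 0 c ∧ h k X 1 (c * io hX P hP) = h k X 1 c := by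
  have := hX.proper
  have := hX.smooth
  have := hX.integral
  obtain ⟨M, hM, rfl⟩ := exists_mk c
  rw [h_mk] at hc
  obtain ⟨P, hP, hPW, h1, h2⟩ := K533.Drop.exists_drop hM hc.ne' W hW
  refine ⟨P, hP, hPW, ?_⟩
  rw [io, dcl, mk_mul_mk, h_mk, h_mk, h_mk, h_mk]
  exact ⟨h1, h2⟩

theorem h0_io_inv_pos (P : Spec (CommRingCat.of k) ⟶ X)
    (hP : P ≫ (X ↘ (Spec (CommRingCat.of k))) = 𝟙 _) (Q : Spec (CommRingCat.of k) ⟶ X)
    (hQ : Q ≫ (X ↘ (Spec (CommRingCat.of k))) = 𝟙 _) (hPQ : pt P ≠ pt Q) :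
    h k X 0 ((io hX P hP)⁻¹ * io hX Q hQ) + 1 = h k X 0 (io hX P hP)⁻¹ := by
  have := hX.proper
  obtain ⟨M, hM, s, hs⟩ := exists_section_of_isEffCartier (isEff hX P hP)
  have h1 := Fga.ZeroClass.mk_eq_inv_dcl hM s hs (isEff hX P hP)
  have h2 := mem_genLocus_of_notMem hM s hs (pt Q) (by
    intro h
    have : pt Q ∈ (P.ker.support : Set X) := h
    rw [support_ker P hP] at this
    exact hPQ this.symm)
  rw [io, ← h1]
  exact (h0_drop_of_mem hX hM _ Q hQ h2).1

/-- The class of a rational point is effective. -/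
theorem h0_io_inv (P : Spec (CommRingCat.of k) ⟶ X)
    (hP : P ≫ (X ↘ (Spec (CommRingCat.of k))) = 𝟙 _) : 0 < h k X 0 (io hX P hP)⁻¹ := by
  have := hX.integral
  obtain ⟨M, hM, s, hs⟩ := exists_section_of_isEffCartier (isEff hX P hP)
  have h1 := Fga.ZeroClass.mk_eq_inv_dcl hM s hs (isEff hX P hP)
  rw [io, ← h1]
  by_contra h0
  have h2 : ¬ Nontrivial (Coh.HH X M 0) := by rwa [nontrivial_iff hX hM 0]
  rw [not_nontrivial_iff_subsingleton] at h2
  have h3 : s = 0 := by
    obtain ⟨a, rfl⟩ := (VarietyA.H0Equiv.hZeroEquiv M).surjective s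
    rw [Subsingleton.elim a 0, map_zero]
    rfl
  obtain ⟨U, e, hxU, -, he⟩ := Picfga.ZeroDiv.exists_affine_gen hM (pt P) ⊤ trivial
  obtain ⟨V, hV, f, hyV, hVT, hf, hfI⟩ := exists_affine_eqn (isEff hX P hP) (pt P) U.1 hxU
  have h4 := hs ⟨V, hV⟩ (res M hVT e) (he.res hVT) 0 (by rw [h3, map_zero, zero_smul])
  rw [hfI] at h4
  have h5 : f = 0 := by
    have : f ∈ Ideal.span {(0 : Γ(X, V))} := h4 ▸ Ideal.mem_span_singleton_self f
    simpa using this
  have h6 : Nonempty V := ⟨⟨_, hyV⟩⟩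
  have h7 := hf V le_rfl 1 (by rw [h5, map_zero, zero_mul])
  exact one_ne_zero h7

/-- On a curve of positive genus, distinct rational points have distinct classes. -/
theorem pt_eq_of_io_eq (hg : 1 ≤ gen k X) (P : Spec (CommRingCat.of k) ⟶ X)
    (hP : P ≫ (X ↘ (Spec (CommRingCat.of k))) = 𝟙 _) (Q : Spec (CommRingCat.of k) ⟶ X)
    (hQ : Q ≫ (X ↘ (Spec (CommRingCat.of k))) = 𝟙 _) (h : io hX P hP = io hX Q hQ) : pt P = pt Q := by
  by_contra hPQ
  have h1 := h0_io_inv_pos hX P hP Q hQ hPQ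
  rw [← h, inv_mul_cancel, h0_one hX] at h1
  have h2 : deg k X (io hX P hP)⁻¹ = 1 := by rw [deg_inv hX, deg_io hX]; rfl
  have h3 := gen_eq_zero_of_h0_eq hX (c := (io hX P hP)⁻¹) (by omega) (by rw [h2, ← h1]; rfl)
    (by rw [h2]; exact one_pos)
  omega

/-- A nontrivial class of degree zero on a curve of genus at least two does not become effective after adding a
general point. -/
theorem exists_h0_eq_zero [IsSepClosed k] (hg : 2 ≤ gen k X) {c : Pic X} (hc : deg k X c = 0)
    (hc1 : c ≠ 1) (W : X.Opens) (hW : (W : Set X).Nonempty) :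
    ∃ (z : Spec (CommRingCat.of k) ⟶ X) (hz : z ≫ (X ↘ (Spec (CommRingCat.of k))) = 𝟙 _), pt z ∈ W ∧
      h k X 0 (c * (io hX z hz)⁻¹) = 0 := by
  have h0 : h k X 0 c = 0 := by
    by_contra h0
    exact hc1 (eq_one_of_deg_nonpos hX (Nat.pos_of_ne_zero h0) hc.le)
  have h1 := rr' hX c
  rw [hc, h0] at h1
  obtain ⟨z, hz, hzW, h2, -⟩ := exists_drop hX (c := om hX * c⁻¹) (by omega) W hW
  refine ⟨z, hz, hzW, ?_⟩
  have h3 := rr' hX (c * (io hX z hz)⁻¹)
  rw [mul_inv_rev, inv_inv, mul_comm (io hX z hz), ← mul_assoc, deg_mul hX, deg_inv hX, deg_io hX,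
    hc] at h3
  omega

end K533.TwoPt
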